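import Cfsg.Agent.Lib.CoprimeGen.Basic
import Cfsg.Agent.Lib.Solvable.NilpotentFrattini

/-!
Fixed points in the subgroups `[h, P]`: the nilpotent case.
-/

set_option autoImplicit false

namespace Cfsg.Agent.CoprimeGen

open Subgroup
open scoped commutatorElement
open Cfsg.Agent.CoprimeAct Cfsg.Agent.SolvBasic

variable {G : Type*} [Group G] [Finite G] {p : ℕ} {x : G} {K : Subgroup G}

omit [Finite G] in
theorem mem_normalizer_of_map_conj_le [Finite G] {U : Subgroup G} {g : G}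
    (h : U.map (MulAut.conj g).toMonoidHom ≤ U) : g ∈ normalizer (U : Set G) := by
  rw [← closure_eq U]
  refine mem_normalizer_closure fun s hs => ?_
  rw [closure_eq]
  exact h ⟨s, hs, rfl⟩

theorem mem_normalizer_commutator {U : Subgroup G} :
    x ∈ normalizer (⁅U, zpowers x⁆ : Subgroup G) :=
  normalizer_commutator_ge_right U (zpowers x) (mem_zpowers x)

/-- The reduction property. -/
def Red (x : G) (K : Subgroup G) : Prop :=
  ∀ V : Subgroup G, V ≤ K → V ≠ ⊥ → K ≤ normalizer (V : Set G) → x ∈ normalizer (V : Set G) →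
    K ⊓ centralizer {x} ≤ C0 x K ⊔ (V ⊓ centralizer {x})

omit [Finite G] in
theorem Red.done (h : Red x K) {V : Subgroup G} (hV : V ≤ K) (hV1 : V ≠ ⊥)
    (hVK : K ≤ normalizer (V : Set G)) (hVx : x ∈ normalizer (V : Set G))
    (hfix : V ⊓ centralizer {x} ≤ C0 x K) : K ⊓ centralizer {x} ≤ C0 x K :=
  (h V hV hV1 hVK hVx).trans (sup_le le_rfl hfix)

/-- Fixed points of an abelian invariant subgroup, detected by the averaging map. -/
theorem inf_centralizer_le_of_cover (h : Act p x K) {V : Subgroup G} (hV : V ≤ K)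
    (hn : x ∈ normalizer (V : Set G)) (hab : ∀ a ∈ V, ∀ b ∈ V, a * b = b * a)
    (hcov : V ≤ closure {s : G | s ∈ V ∧ ∃ D : Subgroup G, x ∈ normalizer (D : Set G) ∧ s ∈ D ∧
      D ⊓ centralizer {x} ≤ C0 x K}) :
    V ⊓ centralizer {x} ≤ C0 x K := by
  obtain ⟨N, hN1, hN2, -, hN4⟩ := exists_norm h hV hn hab
  have hall : ((⊤ : Subgroup ↥V)) ≤ (C0 x K).comap (V.subtype.comp N) := by
    refine (map_le_map_iff_of_injective V.subtype_injective).1 ?_
    rw [← MonoidHom.range_eq_map, range_subtype]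
    refine hcov.trans ?_
    rw [closure_le]
    rintro s ⟨hsV, D, hDn, hsD, hD⟩
    exact ⟨⟨s, hsV⟩, hD ⟨hN4 D hDn ⟨s, hsV⟩ hsD, hN1 ⟨s, hsV⟩⟩, rfl⟩
  intro w hw
  refine mem_of_pow_mem (orderOf_coprime h (hV hw.1)) ?_
  have h1 : (N ⟨w, hw.1⟩ : G) ∈ C0 x K := hall (mem_top _)
  rw [hN2 ⟨w, hw.1⟩ hw.2] at h1
  exact h1

/-- In a nilpotent group a supplement of the derived group is everything. -/
theorem eq_of_sup_commutator [Group.IsNilpotent K] {A : Subgroup G} (hA : A ≤ K)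
    (h : A ⊔ ⁅K, K⁆ = K) : A = K := by
  have h1 : A.subgroupOf K ⊔ commutator K = ⊤ := by
    refine map_injective K.subtype_injective ?_
    rw [Subgroup.map_sup, map_subgroupOf_eq_of_le hA, map_subtype_commutator,
      ← MonoidHom.range_eq_map, range_subtype, h]
  have h2 : A.subgroupOf K ⊔ frattini K = ⊤ :=
    top_le_iff.1 (h1 ▸ sup_le_sup_left (SolvStruct.commutator_le_frattini K) _)
  exact le_antisymm hA (subgroupOf_eq_top.1 (frattini_nongenerating h2))

/-- If `x` fixes `h` modulo `M` then it acts trivially on `M⟨h⟩` modulo `M`. -/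
theorem commutator_sup_zpowers_le {M : Subgroup G} {h : G}
    (hx : x ∈ normalizer (M : Set G)) (hh : h ∈ normalizer (M : Set G))
    (hc : h⁻¹ * (x * h * x⁻¹) ∈ M) : ⁅M ⊔ zpowers h, zpowers x⁆ ≤ M := by
  set N := normalizer (M : Set G) with hN
  have hMN : M ≤ N := le_normalizer
  haveI : (M.subgroupOf N).Normal := normal_subgroupOf_of_le_normalizer le_rfl
  set f := QuotientGroup.mk' (M.subgroupOf N) with hf
  have key : ⁅M.subgroupOf N ⊔ zpowers (⟨h, hh⟩ : ↥N), zpowers (⟨x, hx⟩ : ↥N)⁆ ≤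
      M.subgroupOf N := by
    have h1 : (⁅M.subgroupOf N ⊔ zpowers (⟨h, hh⟩ : ↥N), zpowers (⟨x, hx⟩ : ↥N)⁆).map f = ⊥ := by
      rw [map_commutator, Subgroup.map_sup, MonoidHom.map_zpowers, MonoidHom.map_zpowers,
        (Subgroup.map_eq_bot_iff _).2 (le_of_eq (QuotientGroup.ker_mk' _).symm), bot_sup_eq,
        commutator_eq_bot_iff_le_centralizer, zpowers_le, centralizer_singleton_eq,
        mem_centralizer_singleton_iff, ← map_mul, ← map_mul]
      refine QuotientGroup.eq.2 ?_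
      show ((⟨h, hh⟩ * ⟨x, hx⟩ : ↥N)⁻¹ * (⟨x, hx⟩ * ⟨h, hh⟩ : ↥N) : ↥N).val ∈ M
      have he : (h * x)⁻¹ * (x * h) = x⁻¹ * (h⁻¹ * (x * h * x⁻¹)) * x⁻¹⁻¹ := by group
      simp only [Subgroup.coe_mul, Subgroup.coe_inv]
      rw [he]
      exact conj_mem_of_mem_normalizer (inv_mem hx) hc
    rwa [Subgroup.map_eq_bot_iff, QuotientGroup.ker_mk'] at h1
  have := map_mono (f := N.subtype) key
  rwa [map_commutator, Subgroup.map_sup, MonoidHom.map_zpowers, MonoidHom.map_zpowers,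
    map_subgroupOf_eq_of_le hMN] at this

/-- The invariant subgroup attached to `h`. -/
theorem exists_proper_invariant [Group.IsNilpotent K] (h : Act p x K)
    (hK : ⁅K, zpowers x⁆ = K) {k : G} (hk : k ∈ K) (hne : cm x k ≠ K) :
    ∃ U : Subgroup G, U ≤ K ∧ x ∈ normalizer (U : Set G) ∧ U ≠ K ∧ k ∈ U ∧ ⁅K, K⁆ ≤ U := by
  set M := cm x k ⊔ ⁅K, K⁆ with hM
  have hMK : M ≤ K := sup_le (cm_le h hk) K.commutator_le_self
  have hKM : K ≤ normalizer (M : Set G) := by
    intro g hg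
    refine mem_normalizer_of_map_conj_le ?_
    rintro _ ⟨m, hm, rfl⟩
    show g * m * g⁻¹ ∈ M
    have : g * m * g⁻¹ = ⁅g, m⁆ * m := by rw [commutatorElement_def]; group
    rw [this]
    exact mul_mem (mem_sup_right (commutator_mem_commutator hg (hMK hm))) hm
  have hxD : x ∈ normalizer (⁅K, K⁆ : Subgroup G) := by
    refine mem_normalizer_of_map_conj_le (le_of_eq ?_)
    have : K.map (MulAut.conj x).toMonoidHom = K := by
      ext v
      refine ⟨?_, fun hv => ⟨x⁻¹ * v * x, ?_, by simp [mul_assoc]⟩⟩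
      · rintro ⟨w, hw, rfl⟩
        exact conj_mem_of_mem_normalizer h.hn hw
      · have := conj_mem_of_mem_normalizer (inv_mem h.hn) hv
        rwa [inv_inv] at this
    rw [map_commutator, this]
  have hxM : x ∈ normalizer (M : Set G) :=
    normalizer_inf_normalizer_le_normalizer_sup _ _ (mem_inf.2 ⟨mem_normalizer_cm x k, hxD⟩)
  refine ⟨M ⊔ zpowers k, sup_le hMK (zpowers_le.2 hk), ?_, fun he => hne ?_,
    mem_sup_right (mem_zpowers k), le_sup_right.trans le_sup_left⟩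
  · refine mem_normalizer_of_map_conj_le ?_
    rw [Subgroup.map_sup, MonoidHom.map_zpowers]
    refine sup_le (le_sup_left.trans' ?_) (zpowers_le.2 ?_)
    · rintro _ ⟨m, hm, rfl⟩
      exact conj_mem_of_mem_normalizer hxM hm
    · show x * k * x⁻¹ ∈ M ⊔ zpowers k
      have : x * k * x⁻¹ = k * (k⁻¹ * (x * k * x⁻¹)) := by group
      rw [this]
      exact mul_mem (mem_sup_right (mem_zpowers k))
        (mem_sup_left (mem_sup_left (mem_cm_one x k)))
  · have h1 := commutator_sup_zpowers_le hxM (hKM hk) (mem_sup_left (mem_cm_one x k))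
    rw [he, hK] at h1
    exact eq_of_sup_commutator (cm_le h hk) (le_antisymm hMK h1)

theorem not_commutator_eq_self [Group.IsNilpotent K] {X : Subgroup G} (hX : X ≤ K)
    (h : X ≤ ⁅X, K⁆) : X = ⊥ := by
  obtain ⟨n, hn⟩ := (isNilpotent_iff_lowerCentralSeries K).1 inferInstance
  suffices hs : ∀ m, X ≤ K.lowerCentralSeries m by rw [eq_bot_iff, ← hn]; exact hs n
  intro m
  induction m with
  | zero => exact hX
  | succ m ih =>
    rw [Subgroup.lowerCentralSeries_succ]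
    exact h.trans (commutator_mono ih le_rfl)

/-- The case where the derived group is not central. -/
theorem nilpotent_noncentral [Group.IsNilpotent K] (h : Act p x K) (hK : ⁅K, zpowers x⁆ = K)
    (hB : Below x K) (hR : Red x K) (hq : ∀ k ∈ K, cm x k ≠ K)
    (hD : ⁅⁅K, K⁆, K⁆ ≠ ⊥) : K ⊓ centralizer {x} ≤ C0 x K := by
  have hxK : K ≤ normalizer (⁅K, K⁆ : Subgroup G) := normalizer_commutator_ge_left K K
  have hmapK : K.map (MulAut.conj x).toMonoidHom ≤ K := by
    rintro _ ⟨w, hw, rfl⟩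
    exact conj_mem_of_mem_normalizer h.hn hw
  have hxD : x ∈ normalizer (⁅K, K⁆ : Subgroup G) := by
    refine mem_normalizer_of_map_conj_le ?_
    rw [map_commutator]
    exact commutator_mono hmapK hmapK
  obtain ⟨X, -, ⟨hXD, hXK, hXx, hX1⟩, hmin⟩ := exists_minimal_le_of_wellFoundedLT
    (fun X : Subgroup G => X ≤ ⁅K, K⁆ ∧ K ≤ normalizer (X : Set G) ∧
      x ∈ normalizer (X : Set G) ∧ ⁅X, K⁆ ≠ ⊥) ⁅K, K⁆ ⟨le_rfl, hxK, hxD, hD⟩
  set T := ⁅X, K⁆ with hT
  have hXleK : X ≤ K := hXD.trans K.commutator_le_self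
  have hTX : T ≤ X := le_normalizer_iff_commutator_le_left.1 hXK
  have hTK : K ≤ normalizer (T : Set G) := normalizer_commutator_ge_right X K
  have hTx : x ∈ normalizer (T : Set G) := by
    refine mem_normalizer_of_map_conj_le ?_
    rw [map_commutator]
    refine commutator_mono ?_ hmapK
    rintro _ ⟨w, hw, rfl⟩
    exact conj_mem_of_mem_normalizer hXx hw
  have hTc : ⁅T, K⁆ = ⊥ := by
    by_contra hne
    have h1 : X ≤ T := hmin ⟨hTX.trans hXD, hTK, hTx, hne⟩ hTX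
    refine hX1 ?_
    rw [hT, not_commutator_eq_self hXleK h1]
    exact commutator_bot_left K
  have hcen : ∀ t ∈ T, ∀ g ∈ K, g * t = t * g := fun t ht g hg =>
    mem_centralizer_iff.1 (commutator_eq_bot_iff_le_centralizer.1 hTc ht) g hg
  refine hR.done (hTX.trans hXleK) hX1 hTK hTx ?_
  refine inf_centralizer_le_of_cover h (hTX.trans hXleK) hTx
    (fun a ha b hb => hcen b hb a (hXleK (hTX ha))) ?_
  set S := closure {s : G | s ∈ T ∧ ∃ D : Subgroup G, x ∈ normalizer (D : Set G) ∧ s ∈ D ∧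
      D ⊓ centralizer {x} ≤ C0 x K} with hS
  rw [hT, commutator_le]
  intro a ha k hk
  suffices hs : k ∈ K ∧ ⁅a, k⁆ ∈ S from hs.2
  have hk' : k ∈ ⨆ h : ↥K, cm x (h : G) := commutator_le_iSup (hK.symm ▸ hk)
  refine Subgroup.iSup_induction (C := fun k => k ∈ K ∧ ⁅a, k⁆ ∈ S) _ hk' ?_ ?_ ?_
  · rintro ⟨g, hg⟩ c hc
    obtain ⟨U, hU, hUx, hUne, hgU, hUD⟩ := exists_proper_invariant h hK hg (hq g hg)
    have hcP : c ∈ ⁅U, zpowers x⁆ := cm_le_commutator hgU hc
    refine ⟨cm_le h hg hc, subset_closure ⟨commutator_mem_commutator ha (cm_le h hg hc),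
      ⁅U, zpowers x⁆, mem_normalizer_commutator, ?_, hB.apply hU hUx hUne⟩⟩
    have : ⁅a, c⁆ = a * c * a⁻¹ * c⁻¹ := commutatorElement_def a c
    rw [this]
    exact mul_mem (conj_mem_of_mem_normalizer
      (normalizer_commutator_ge_left U (zpowers x) (hUD (hXD ha))) hcP) (inv_mem hcP)
  · exact ⟨one_mem _, by rw [commutatorElement_one_right]; exact one_mem _⟩
  · rintro b c ⟨hb, hab⟩ ⟨hc, hac⟩
    refine ⟨mul_mem hb hc, ?_⟩
    have h1 : ⁅a, b * c⁆ = ⁅a, b⁆ * (b * ⁅a, c⁆ * b⁻¹) := by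
      simp only [commutatorElement_def]; group
    rw [h1, hcen _ (commutator_mem_commutator ha hc) b hb, mul_inv_cancel_right]
    exact mul_mem hab hac

/-- The case where the derived group is central. -/
theorem nilpotent_central [Group.IsNilpotent K] (h : Act p x K) (hp : Odd p)
    (hK : ⁅K, zpowers x⁆ = K) (hB : Below x K) (hR : Red x K) (hq : ∀ k ∈ K, cm x k ≠ K)
    (hD : ⁅⁅K, K⁆, K⁆ = ⊥) (hD1 : ⁅K, K⁆ ≠ ⊥) : K ⊓ centralizer {x} ≤ C0 x K := by
  classical
  set D := ⁅K, K⁆ with hDdef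
  have hDK : D ≤ K := K.commutator_le_self
  have hcen : ∀ t ∈ D, ∀ g ∈ K, g * t = t * g := fun t ht g hg =>
    mem_centralizer_iff.1 (commutator_eq_bot_iff_le_centralizer.1 hD ht) g hg
  have hDx : x ∈ normalizer (D : Set G) := by
    refine mem_normalizer_of_map_conj_le ?_
    rw [map_commutator]
    exact commutator_mono (by rintro _ ⟨w, hw, rfl⟩; exact conj_mem_of_mem_normalizer h.hn hw)
      (by rintro _ ⟨w, hw, rfl⟩; exact conj_mem_of_mem_normalizer h.hn hw)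
  have hab : ∀ a ∈ D, ∀ b ∈ D, a * b = b * a := fun a ha b hb => hcen b hb a (hDK ha)
  obtain ⟨N, hN1, hN2, hN3, hN4⟩ := exists_norm h hDK hDx hab
  refine hR.done hDK hD1 (normalizer_commutator_ge_left K K) hDx ?_
  set M := (C0 x K).subgroupOf D with hMdef
  haveI : M.Normal := ⟨fun m hm g => by
    have : g * m * g⁻¹ = m := by
      rw [show g * m = m * g from Subtype.ext (hab g g.2 m m.2), mul_inv_cancel_right]
    rwa [this]⟩
  have hcomm : ∀ u v : ↥D ⧸ M, u * v = v * u := by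
    rintro ⟨u⟩ ⟨v⟩
    exact congrArg (QuotientGroup.mk' M) (Subtype.ext (hab u u.2 v v.2))
  obtain ⟨β, hβ⟩ : ∃ β : ↥K → ↥K → ↥D ⧸ M, ∀ a b, β a b =
      QuotientGroup.mk' M (N ⟨⁅(a : G), (b : G)⁆, commutator_mem_commutator a.2 b.2⟩) :=
    ⟨_, fun _ _ => rfl⟩
  obtain ⟨σ, hσ⟩ : ∃ σ : ℕ → ↥K → ↥K, ∀ i a, (σ i a : G) = x ^ i * (a : G) * (x ^ i)⁻¹ :=
    ⟨fun i a => ⟨_, h.conj_mem a.2 i⟩, fun _ _ => rfl⟩
  have hσσ : ∀ i j a, σ i (σ j a) = σ (i + j) a := fun i j a => Subtype.ext (by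
    rw [hσ, hσ, hσ, pow_add]; group)
  have hσp : ∀ a, σ p a = a := fun a => Subtype.ext (by rw [hσ, h.hx]; simp)
  have hσ0 : ∀ a, σ 0 a = a := fun a => Subtype.ext (by rw [hσ]; simp)
  have hmulr : ∀ a b c, β a (b * c) = β a b * β a c := by
    intro a b c
    rw [hβ, hβ, hβ, ← map_mul, ← map_mul]
    congr 2
    apply Subtype.ext
    show ⁅(a : G), (b : G) * c⁆ = ⁅(a : G), (b : G)⁆ * ⁅(a : G), (c : G)⁆
    have h1 : ⁅(a : G), (b : G) * c⁆ = ⁅(a : G), (b : G)⁆ * (b * ⁅(a : G), (c : G)⁆ * (b : G)⁻¹) := by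
      simp only [commutatorElement_def]; group
    rw [h1, hcen _ (commutator_mem_commutator a.2 c.2) b b.2, mul_inv_cancel_right]
  have hanti : ∀ a b, β b a = (β a b)⁻¹ := by
    intro a b
    rw [hβ, hβ, ← map_inv, ← map_inv]
    congr 2
    exact Subtype.ext (commutatorElement_inv (a : G) b).symm
  have hmull : ∀ a b c, β (a * b) c = β a c * β b c := by
    intro a b c
    rw [hanti c, hmulr, mul_inv_rev, ← hanti, ← hanti, hcomm]
  have hself : ∀ a, β a a = 1 := fun a => by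
    rw [hβ]
    have : (⟨⁅(a : G), a⁆, commutator_mem_commutator a.2 a.2⟩ : ↥D) = 1 :=
      Subtype.ext (commutatorElement_self _)
    rw [this, map_one, map_one]
  have hinv : ∀ a b, β (σ 1 a) (σ 1 b) = β a b := by
    intro a b
    rw [hβ, hβ]
    congr 1
    rw [← hN3 ⟨⁅(a : G), (b : G)⁆, commutator_mem_commutator a.2 b.2⟩
      (conj_mem_of_mem_normalizer hDx (commutator_mem_commutator a.2 b.2))]
    congr 1
    apply Subtype.ext
    show ⁅((σ 1 a : ↥K) : G), ((σ 1 b : ↥K) : G)⁆ = x * ⁅(a : G), (b : G)⁆ * x⁻¹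
    rw [hσ, hσ, pow_one]
    simp only [commutatorElement_def]
    group
  have hcm : ∀ (a : ↥K) (i j : ℕ), β (a⁻¹ * σ i a) (a⁻¹ * σ j a) = 1 := by
    intro a i j
    obtain ⟨U, hU, hUx, hUne, haU, -⟩ := exists_proper_invariant h hK a.2 (hq a a.2)
    have hc : ∀ i, ((a⁻¹ * σ i a : ↥K) : G) ∈ ⁅U, zpowers x⁆ := fun i =>
      cm_le_commutator haU (by rw [Subgroup.coe_mul, Subgroup.coe_inv, hσ]; exact mem_cm x a i)
    rw [hβ, QuotientGroup.mk'_apply, QuotientGroup.eq_one_iff]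
    refine hB.apply hU hUx hUne ⟨hN4 _ mem_normalizer_commutator _ ?_, hN1 _⟩
    show ⁅_, _⁆ ∈ ⁅U, zpowers x⁆
    rw [commutatorElement_def]
    exact mul_mem (mul_mem (mul_mem (hc i) (hc j)) (inv_mem (hc i))) (inv_mem (hc j))
  have hinvr : ∀ a b, β a b⁻¹ = (β a b)⁻¹ := by
    intro a b
    refine eq_inv_of_mul_eq_one_left ?_
    rw [← hmulr, inv_mul_cancel]
    have : β a 1 * β a 1 = β a 1 := by rw [← hmulr, one_mul]
    exact mul_left_cancel (this.trans (mul_one _).symm)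
  have hinvl : ∀ a b, β a⁻¹ b = (β a b)⁻¹ := fun a b => by
    rw [hanti b, hinvr, ← hanti]
  have hf1 : ∀ a, β a (σ 1 a) = 1 := by
    intro a
    have hstep : ∀ k, β a (σ (k + 1) a) = β a (σ k a) * β a (σ 1 a) := by
      intro k
      have h0 := hcm a 1 (k + 1)
      have h1 : β (σ 1 a) (σ (k + 1) a) = β a (σ k a) := by
        rw [show k + 1 = 1 + k from add_comm _ _, ← hσσ, hinv]
      rw [hmull, hmulr, hmulr, hinvl, hinvl, hinvr, hinvr, hself, h1, inv_one, inv_one, one_mul,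
        hanti a (σ 1 a), inv_inv] at h0
      -- `h0 : (β a (σ (k+1) a))⁻¹ * (β a (σ 1 a) * β a (σ k a)) = 1`
      rw [hcomm (β a (σ k a))]
      exact inv_mul_eq_one.1 h0
    have hpow : ∀ k, β a (σ k a) = β a (σ 1 a) ^ k := by
      intro k
      induction k with
      | zero => rw [hσ0, hself, pow_zero]
      | succ k ih => rw [hstep, ih, pow_succ]
    have h1 : β a (σ 1 a) ^ p = 1 := by rw [← hpow, hσp, hself]
    have h2 : (orderOf (β a (σ 1 a))).Coprime p := by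
      refine h.hc.coprime_dvd_left ((_root_.orderOf_dvd_natCard _).trans ?_)
      exact (M.card_quotient_dvd_card).trans (card_dvd_of_le hDK)
    exact orderOf_eq_one_iff.1 (Nat.Coprime.eq_one_of_dvd h2 (orderOf_dvd_of_pow_eq_one h1))
  have hsym : ∀ a b, β a (σ 1 b) = β (σ 1 a) b := by
    intro a b
    have h0 := hf1 (a * b)
    have hσm : σ 1 (a * b) = σ 1 a * σ 1 b := Subtype.ext (by
      rw [Subgroup.coe_mul, hσ, hσ, hσ, Subgroup.coe_mul]; group)
    rw [hσm, hmull, hmulr, hmulr, hf1, hf1, one_mul, mul_one, hanti (σ 1 a) b] at h0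
    exact mul_inv_eq_one.1 h0
  have htwo : ∀ (m : ℕ) (a c : ↥K), β a (σ (2 * m) c) = β a c := by
    intro m
    induction m with
    | zero => intro a c; rw [mul_zero, hσ0]
    | succ m ih =>
      intro a c
      rw [show 2 * (m + 1) = 1 + (1 + 2 * m) by ring, ← hσσ, hsym, ← hσσ, hinv, ih]
  have hone : ∀ a c, β a (σ 1 c) = β a c := by
    intro a c
    obtain ⟨m, hm⟩ := hp
    rw [← htwo (m + 1) a c, show 2 * (m + 1) = 1 + p by omega, ← hσσ, hσp]
  have hall : ∀ (i : ℕ) (a c : ↥K), β a (σ i c) = β a c := by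
    intro i
    induction i with
    | zero => intro a c; rw [hσ0]
    | succ i ih => intro a c; rw [← hσσ, ih, hone]
  have htriv : ∀ a b, β a b = 1 := by
    intro a b
    suffices hs : (b : G) ∈ K ∧ ∀ hb, β a ⟨(b : G), hb⟩ = 1 from hs.2 b.2
    have hb' : (b : G) ∈ ⨆ h : ↥K, cm x (h : G) := commutator_le_iSup (hK.symm ▸ b.2)
    refine Subgroup.iSup_induction (C := fun c : G => c ∈ K ∧ ∀ hc : c ∈ K, β a ⟨c, hc⟩ = 1) _ hb'
      ?_ ?_ ?_
    · intro g c hc
      refine closure_induction (p := fun c _ => c ∈ K ∧ ∀ hc : c ∈ K, β a ⟨c, hc⟩ = 1)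
        ?_ ?_ ?_ ?_ hc
      · rintro _ ⟨i, rfl⟩
        refine ⟨mul_mem (inv_mem g.2) (h.conj_mem g.2 i), fun hc => ?_⟩
        have : (⟨_, hc⟩ : ↥K) = g⁻¹ * σ i g := Subtype.ext (by simp [hσ])
        rw [this, hmulr, hall, hinvr, inv_mul_cancel]
      · exact ⟨one_mem _, fun hc => by
          have : (⟨1, hc⟩ : ↥K) = g⁻¹ * g := Subtype.ext (by simp)
          rw [this, hmulr, hinvr, inv_mul_cancel]⟩
      · rintro u v - - ⟨hu, hu'⟩ ⟨hv, hv'⟩
        exact ⟨mul_mem hu hv, fun _ => (hmulr a ⟨u, hu⟩ ⟨v, hv⟩).trans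
          (by rw [hu' hu, hv' hv, one_mul])⟩
      · rintro u - ⟨hu, hu'⟩
        exact ⟨inv_mem hu, fun _ => (hinvr a ⟨u, hu⟩).trans (by rw [hu' hu, inv_one])⟩
    · exact ⟨one_mem _, fun hc => by
        have : (⟨1, hc⟩ : ↥K) = a⁻¹ * a := Subtype.ext (by simp)
        rw [this, hmulr, hinvr, inv_mul_cancel]⟩
    · rintro u v ⟨hu, hu'⟩ ⟨hv, hv'⟩
      exact ⟨mul_mem hu hv, fun _ => (hmulr a ⟨u, hu⟩ ⟨v, hv⟩).trans
        (by rw [hu' hu, hv' hv, one_mul])⟩
  have hNC : ∀ v : ↥D, (N v : G) ∈ C0 x K := by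
    have hle : D ≤ (((C0 x K).comap (D.subtype.comp N)).map D.subtype) := by
      conv_lhs => rw [hDdef]
      rw [commutator_le]
      intro a ha b hb
      refine ⟨⟨⁅a, b⁆, commutator_mem_commutator ha hb⟩, ?_, rfl⟩
      have := htriv ⟨a, ha⟩ ⟨b, hb⟩
      rw [hβ, QuotientGroup.mk'_apply, QuotientGroup.eq_one_iff] at this
      exact this
    intro v
    obtain ⟨w, hw, hwv⟩ := hle v.2
    rw [← Subtype.ext hwv]
    exact hw
  intro w hw
  refine mem_of_pow_mem (orderOf_coprime h (hDK hw.1)) ?_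
  have h1 := hNC ⟨w, hw.1⟩
  rw [hN2 ⟨w, hw.1⟩ hw.2] at h1
  exact h1

/-- The nilpotent case. -/
theorem nilpotent_case [Group.IsNilpotent K] (h : Act p x K) (hp : Odd p)
    (hK : ⁅K, zpowers x⁆ = K) (hB : Below x K) (hR : Red x K) :
    K ⊓ centralizer {x} ≤ C0 x K := by
  by_cases hq : ∃ k ∈ K, cm x k = K
  · obtain ⟨k, hk, he⟩ := hq
    exact le_C0_of_cm_eq hk he
  push Not at hq
  by_cases hD : ⁅⁅K, K⁆, K⁆ = ⊥
  · by_cases hD1 : ⁅K, K⁆ = ⊥
    · haveI : IsMulCommutative ↥K := IsMulCommutative.of_comm fun a b => Subtype.ext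
        (mem_centralizer_iff.1 (commutator_eq_bot_iff_le_centralizer.1 hD1 b.2) a a.2)
      have h1 := centralizer_inf_commutator_eq_bot h.aN h.cop
      rw [hK, centralizer_singleton_eq, inf_eq_left.2 inf_le_left] at h1
      rw [h1]; exact bot_le
    · exact nilpotent_central h hp hK hB hR hq hD hD1
  · exact nilpotent_noncentral h hK hB hR hq hD

end Cfsg.Agent.CoprimeGen
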