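import Cfsg.Agent.Lib.CoprimeGen.Nilpotent

/-!
Fixed points in the subgroups `[h, P]`: auxiliary facts and the reduction.
-/

set_option autoImplicit false

namespace Cfsg.Agent.CoprimeGen

open Subgroup
open scoped commutatorElement
open Cfsg.Agent.CoprimeAct Cfsg.Agent.SolvBasic

universe u

variable {G : Type u} [Group G] [Finite G] {p : ℕ} {x : G} {K : Subgroup G}

/-- The claim for groups of order less than `n`. -/
def Goal (p n : ℕ) : Prop :=
  ∀ (G : Type u) [Group G] [Finite G] (x : G) (K : Subgroup G), Act p x K → Nat.card K < n →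
    ⁅K, zpowers x⁆ ⊓ centralizer {x} ≤ C0 x K

omit [Finite G] in
theorem card_lt_of_lt [Finite G] {A B : Subgroup G} (h : A ≤ B) (hne : A ≠ B) :
    Nat.card A < Nat.card B :=
  lt_of_le_of_ne (card_le_of_le h) fun he => hne (eq_of_le_of_card_ge h he.ge)

theorem below_of_goal (hG : Goal.{u} p (Nat.card K)) (h : Act p x K) : Below x K :=
  fun U hU hUn hne => hG G x U (h.mono hU hUn) (card_lt_of_lt hU hne)

/-- Reduction modulo an invariant normal subgroup. -/
theorem red_of_goal (hG : Goal.{u} p (Nat.card K)) (h : Act p x K) (hK : ⁅K, zpowers x⁆ = K) :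
    Red x K := by
  intro V hVK hV1 hKV hxV
  set N := normalizer (V : Set G) with hN
  haveI : (V.subgroupOf N).Normal := normal_subgroupOf_of_le_normalizer le_rfl
  set f := QuotientGroup.mk' (V.subgroupOf N) with hf
  set x' : ↥N := ⟨x, hxV⟩ with hx'
  set K' := K.subgroupOf N with hK'
  have hmap : K'.map N.subtype = K := map_subgroupOf_eq_of_le hKV
  have hcard : Nat.card K' = Nat.card K := by
    rw [← hmap, card_map_of_injective N.subtype_injective]
  have hA : Act p x' K' := by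
    refine ⟨Subtype.ext h.hx, ?_, hcard ▸ h.hc, ?_⟩
    · rw [mem_normalizer_iff]
      exact fun v => mem_normalizer_iff.1 h.hn (v : G)
    · have := h.hs
      exact Group.isSolvable_of_isSolvable_injective (f := (subgroupOfEquivOfLe hKV).toMonoidHom)
        (subgroupOfEquivOfLe hKV).injective
  have hK'c : ⁅K', zpowers x'⁆ = K' := by
    refine map_injective N.subtype_injective ?_
    rw [map_commutator, MonoidHom.map_zpowers, hmap]
    exact hK
  have hlt : Nat.card (K'.map f) < Nat.card K := by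
    rw [← hcard]
    refine lt_of_le_of_ne (Nat.le_of_dvd Nat.card_pos (K'.card_map_dvd f)) fun he => hV1 ?_
    have hbij := (Nat.bijective_iff_surjective_and_card (f.subgroupMap K')).2
      ⟨f.subgroupMap_surjective K', he.symm⟩
    rw [eq_bot_iff]
    intro v hv
    have h1 : f.subgroupMap K' ⟨⟨v, hKV (hVK hv)⟩, hVK hv⟩ = f.subgroupMap K' 1 := Subtype.ext (by
      show f ⟨v, _⟩ = f 1
      rw [map_one, hf, QuotientGroup.mk'_apply, QuotientGroup.eq_one_iff]
      exact hv)
    exact mem_bot.2 (congrArg (fun t : ↥K' => ((t : ↥N) : G)) (hbij.1 h1))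
  have hsub := (hG _ (f x') (K'.map f) (hA.map f) hlt)
  rw [← MonoidHom.map_zpowers, ← map_commutator, hK'c] at hsub
  intro c hc
  have hcN : c ∈ N := hKV hc.1
  have hfc : f ⟨c, hcN⟩ ∈ (C0 x' K').map f := by
    refine C0_map_le hA f (hsub (mem_inf.2 ⟨⟨⟨c, hcN⟩, hc.1, rfl⟩, ?_⟩))
    rw [mem_centralizer_singleton_iff, ← map_mul, ← map_mul]
    exact congrArg f (Subtype.ext (mem_centralizer_singleton_iff.1 hc.2))
  obtain ⟨d, hd, hdc⟩ := hfc
  have hd0 : (d : G) ∈ C0 x K := by
    have := map_C0_le N.subtype x' K' (mem_map_of_mem N.subtype hd)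
    rwa [hmap] at this
  have hv : (d : G)⁻¹ * c ∈ V := by
    rw [hf, QuotientGroup.mk'_apply, QuotientGroup.mk'_apply, QuotientGroup.eq] at hdc
    exact hdc
  have hceq : c = (d : G) * ((d : G)⁻¹ * c) := by group
  rw [hceq]
  exact mul_mem (mem_sup_left hd0)
    (mem_sup_right (mem_inf.2 ⟨hv,
      mul_mem (inv_mem (C0_le_centralizer x K hd0)) (mem_inf.1 hc).2⟩))

omit [Finite G] in
theorem map_conj_le_of_mem {U : Subgroup G} {g : G} (hg : g ∈ normalizer (U : Set G)) :
    U.map (MulAut.conj g).toMonoidHom ≤ U := by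
  rintro _ ⟨w, hw, rfl⟩
  exact conj_mem_of_mem_normalizer hg hw

theorem mem_normalizer_commutator_of_mem {A B : Subgroup G} {g : G}
    (hA : g ∈ normalizer (A : Set G)) (hB : g ∈ normalizer (B : Set G)) :
    g ∈ normalizer (⁅A, B⁆ : Subgroup G) := by
  refine mem_normalizer_of_map_conj_le ?_
  rw [map_commutator]
  exact commutator_mono (map_conj_le_of_mem hA) (map_conj_le_of_mem hB)

theorem mem_normalizer_sup {A B : Subgroup G} {g : G}
    (hA : g ∈ normalizer (A : Set G)) (hB : g ∈ normalizer (B : Set G)) :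
    g ∈ normalizer ((A ⊔ B : Subgroup G) : Set G) :=
  normalizer_inf_normalizer_le_normalizer_sup _ _ (mem_inf.2 ⟨hA, hB⟩)

theorem mem_normalizer_inf {A B : Subgroup G} {g : G}
    (hA : g ∈ normalizer (A : Set G)) (hB : g ∈ normalizer (B : Set G)) :
    g ∈ normalizer ((A ⊓ B : Subgroup G) : Set G) :=
  inf_normalizer_le_normalizer_inf (mem_inf.2 ⟨hA, hB⟩)

theorem mem_normalizer_centralizer_singleton {z g : G} (h : g * z = z * g) :
    g ∈ normalizer (centralizer ({z} : Set G) : Set G) :=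
  le_normalizer (mem_centralizer_singleton_iff.2 h)

theorem mem_normalizer_centralizer {E : Subgroup G} {g : G}
    (h : g ∈ normalizer (E : Set G)) :
    g ∈ normalizer (centralizer (E : Set G) : Set G) := by
  refine mem_normalizer_of_map_conj_le ?_
  rintro _ ⟨w, hw, rfl⟩
  show g * w * g⁻¹ ∈ centralizer (E : Set G)
  rw [mem_centralizer_iff]
  intro e he
  have h1 : g⁻¹ * e * g ∈ E := by
    simpa using conj_mem_of_mem_normalizer (inv_mem h) he
  have h2 := mem_centralizer_iff.1 hw _ h1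
  calc e * (g * w * g⁻¹) = g * (g⁻¹ * e * g * w) * g⁻¹ := by group
    _ = g * (w * (g⁻¹ * e * g)) * g⁻¹ := by rw [h2]
    _ = g * w * g⁻¹ * e := by group

omit [Finite G] in
theorem zpowers_le_normalizer {U : Subgroup G} (h : x ∈ normalizer (U : Set G)) :
    zpowers x ≤ normalizer (U : Set G) :=
  zpowers_le.2 h

omit [Finite G] in
theorem card_le_of_le_sup [Finite G] {A B V : Subgroup G} (hB : B ≤ normalizer (V : Set G))
    (hA : A ≤ V ⊔ B) (hAV : A ⊓ V = ⊥) : Nat.card A ≤ Nat.card B := by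
  have hex : ∀ a : ↥A, ∃ b : ↥B, (a : G) * (b : G)⁻¹ ∈ V := fun a => by
    obtain ⟨v, hv, b, hb, hab⟩ := (mem_sup_iff_of_le_normalizer hB).1 (hA a.2)
    exact ⟨⟨b, hb⟩, by rw [hab, mul_inv_cancel_right]; exact hv⟩
  choose φ hφ using hex
  refine Nat.card_le_card_of_injective φ fun a a' he => ?_
  have h1 : (a : G) * (a' : G)⁻¹ ∈ A ⊓ V := by
    refine mem_inf.2 ⟨mul_mem a.2 (inv_mem a'.2), ?_⟩
    have : (a : G) * (a' : G)⁻¹ = (a * (φ a : G)⁻¹) * (a' * (φ a' : G)⁻¹)⁻¹ := by
      rw [he]; group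
    rw [this]
    exact mul_mem (hφ a) (inv_mem (hφ a'))
  rw [hAV, mem_bot, mul_inv_eq_one] at h1
  exact Subtype.ext h1

/-- Elements of the commutator of a product with a coprime action. -/
theorem commutator_sup_le {A B M : Subgroup G} (hB : B ≤ normalizer (A : Set G))
    (hA : A ≤ M) (hBM : ⁅B, zpowers x⁆ ≤ M) (hxA : x ∈ normalizer (A : Set G)) :
    ⁅A ⊔ B, zpowers x⁆ ≤ M := by
  rw [commutator_le]
  intro k hk a ha
  obtain ⟨v, hv, b, hb, rfl⟩ := (mem_sup_iff_of_le_normalizer hB).1 hk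
  have h1 : ⁅v * b, a⁆ = v * ⁅b, a⁆ * (a * v⁻¹ * a⁻¹) := by
    simp only [commutatorElement_def]; group
  rw [h1]
  exact mul_mem (mul_mem (hA hv) (hBM (commutator_mem_commutator hb ha)))
    (hA (conj_mem_of_mem_normalizer (zpowers_le.2 hxA ha) (inv_mem hv)))

/-- An invariant subgroup is generated by its `[g, P]` and its fixed points. -/
theorem le_sup_fixed (h : Act p x K) {S L : Subgroup G} (hS : S ≤ K)
    (hSx : x ∈ normalizer (S : Set G)) (hL : ∀ g ∈ S, cm x g ≤ L) :
    S ≤ L ⊔ (K ⊓ centralizer {x}) := by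
  have hA := h.mono hS hSx
  intro s hs
  obtain ⟨d, hd, c, hc, rfl⟩ := exists_commutator_mul hA.aN hA.cop hA.sol hs
  obtain ⟨hc1, hc2⟩ := mem_inf.1 hc
  rw [centralizer_singleton_eq] at hc2
  refine Subgroup.mul_mem _ (mem_sup_left ?_) (mem_sup_right (mem_inf.2 ⟨hS hc1, hc2⟩))
  have hle : ⨆ g : ↥S, cm x (g : G) ≤ L := iSup_le fun g => hL (g : G) g.2
  exact hle (commutator_le_iSup (x := x) (K := S) hd)

end Cfsg.Agent.CoprimeGen
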