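import Cfsg.Agent.Lib.Solvable.Coprime

/-!
Fixed points in the subgroups `[h, P]`: basic facts.
-/

set_option autoImplicit false

namespace Cfsg.Agent.CoprimeGen

open Subgroup
open scoped commutatorElement
open Cfsg.Agent.CoprimeAct Cfsg.Agent.SolvBasic

variable {G : Type*} [Group G]

/-- The subgroup `[h, ⟨x⟩]`. -/
def cm (x h : G) : Subgroup G := closure {c | ∃ i : ℕ, c = h⁻¹ * (x ^ i * h * (x ^ i)⁻¹)}

/-- The subgroup generated by the fixed points in the `[h, ⟨x⟩]`, `h ∈ K`. -/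
def C0 (x : G) (K : Subgroup G) : Subgroup G := ⨆ h : ↥K, cm x (h : G) ⊓ centralizer {x}

theorem mem_cm (x h : G) (i : ℕ) : h⁻¹ * (x ^ i * h * (x ^ i)⁻¹) ∈ cm x h :=
  subset_closure ⟨i, rfl⟩

theorem mem_cm_one (x h : G) : h⁻¹ * (x * h * x⁻¹) ∈ cm x h := by
  simpa using mem_cm x h 1

theorem map_cm {G' : Type*} [Group G'] (f : G →* G') (x h : G) :
    (cm x h).map f = cm (f x) (f h) := by
  rw [cm, cm, MonoidHom.map_closure]
  congr 1
  ext c
  constructor
  · rintro ⟨_, ⟨i, rfl⟩, rfl⟩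
    exact ⟨i, by simp⟩
  · rintro ⟨i, rfl⟩
    exact ⟨_, ⟨i, rfl⟩, by simp⟩

theorem centralizer_singleton_eq (x : G) :
    centralizer ((zpowers x : Subgroup G) : Set G) = centralizer {x} := by
  ext g
  rw [mem_centralizer_singleton_iff]
  exact ⟨fun h => (mem_centralizer_iff.1 h x (mem_zpowers x)).symm, fun h =>
    mem_centralizer_iff.2 fun y hy => by
      obtain ⟨k, rfl⟩ := mem_zpowers_iff.1 hy
      exact ((Commute.zpow_right (show Commute g x from h) k).eq).symm⟩

theorem C0_le_centralizer (x : G) (K : Subgroup G) : C0 x K ≤ centralizer {x} :=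
  iSup_le fun _ => inf_le_right

theorem C0_mono {x : G} {U K : Subgroup G} (h : U ≤ K) : C0 x U ≤ C0 x K :=
  iSup_le fun u => le_iSup_of_le (⟨(u : G), h u.2⟩ : ↥K) le_rfl

theorem mem_C0_of_cm {x : G} {K : Subgroup G} {h c : G} (hh : h ∈ K) (hc : c ∈ cm x h)
    (hcx : c ∈ centralizer {x}) : c ∈ C0 x K :=
  mem_iSup_of_mem (⟨h, hh⟩ : ↥K) ⟨hc, hcx⟩

theorem map_C0_le {G' : Type*} [Group G'] (f : G →* G') (x : G) (K : Subgroup G) :
    (C0 x K).map f ≤ C0 (f x) (K.map f) := by
  rw [C0, Subgroup.map_iSup]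
  refine iSup_le fun h => ?_
  rintro _ ⟨c, hc, rfl⟩
  refine mem_C0_of_cm (mem_map_of_mem f h.2) ?_ ?_
  · rw [← map_cm]; exact mem_map_of_mem f hc.1
  · rw [mem_centralizer_singleton_iff, ← map_mul, ← map_mul, mem_centralizer_singleton_iff.1 hc.2]

/-- The standing hypotheses: `x` of order dividing `p` normalises the solvable `p'`-group `K`. -/
structure Act (p : ℕ) (x : G) (K : Subgroup G) : Prop where
  hx : x ^ p = 1
  hn : x ∈ normalizer (K : Set G)
  hc : (Nat.card K).Coprime p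
  hs : Group.IsSolvable K

namespace Act

variable {p : ℕ} {x : G} {K : Subgroup G}

theorem aN (h : Act p x K) : zpowers x ≤ normalizer (K : Set G) := zpowers_le.2 h.hn

theorem cop (h : Act p x K) : (Nat.card (zpowers x)).Coprime (Nat.card K) := by
  rw [Nat.card_zpowers]
  exact h.hc.symm.coprime_dvd_left (orderOf_dvd_of_pow_eq_one h.hx)

theorem sol (h : Act p x K) : Group.IsSolvable (zpowers x) ∨ Group.IsSolvable K := Or.inr h.hs

theorem mono [Finite G] (h : Act p x K) {U : Subgroup G} (hU : U ≤ K)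
    (hUn : x ∈ normalizer (U : Set G)) : Act p x U :=
  ⟨h.hx, hUn, h.hc.coprime_dvd_left (card_dvd_of_le hU), @isSolvable_of_le G _ _ K hU h.hs⟩

theorem map {G' : Type*} [Group G'] [Finite G] (h : Act p x K) (f : G →* G') :
    Act p (f x) (K.map f) := by
  refine ⟨by rw [← map_pow, h.hx, map_one], ?_, h.hc.coprime_dvd_left (K.card_map_dvd f), ?_⟩
  · exact Subgroup.le_normalizer_map f (mem_map_of_mem f h.hn)
  · have := h.hs
    exact Group.isSolvable_of_surjective (f.subgroupMap_surjective K)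

theorem pow_mem_normalizer (h : Act p x K) (i : ℕ) : x ^ i ∈ normalizer (K : Set G) :=
  pow_mem h.hn i

theorem conj_mem (h : Act p x K) {k : G} (hk : k ∈ K) (i : ℕ) : x ^ i * k * (x ^ i)⁻¹ ∈ K :=
  conj_mem_of_mem_normalizer (h.pow_mem_normalizer i) hk

end Act

variable {p : ℕ} {x : G} {K : Subgroup G}

theorem mem_normalizer_closure {g : G} {S : Set G} [Finite G]
    (h : ∀ s ∈ S, g * s * g⁻¹ ∈ closure S) : g ∈ normalizer (closure S : Set G) := by
  have hle : (closure S).map (MulAut.conj g).toMonoidHom ≤ closure S := by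
    rw [MonoidHom.map_closure, closure_le]
    rintro _ ⟨s, hs, rfl⟩
    exact h s hs
  have heq : (closure S).map (MulAut.conj g).toMonoidHom = closure S :=
    eq_of_le_of_card_ge hle
      (le_of_eq (card_map_of_injective (MulAut.conj g).injective).symm)
  rw [mem_normalizer_iff]
  intro v
  conv_rhs => rw [← heq]
  exact (mem_map_iff_mem (MulAut.conj g).injective).symm

theorem mem_normalizer_cm [Finite G] (x h : G) : x ∈ normalizer (cm x h : Set G) := by
  refine mem_normalizer_closure ?_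
  rintro _ ⟨i, rfl⟩
  have h1 : x * (h⁻¹ * (x ^ i * h * (x ^ i)⁻¹)) * x⁻¹ =
      (h⁻¹ * (x ^ 1 * h * (x ^ 1)⁻¹))⁻¹ * (h⁻¹ * (x ^ (i + 1) * h * (x ^ (i + 1))⁻¹)) := by
    rw [pow_succ' x i, pow_one]; group
  rw [h1]
  exact mul_mem (inv_mem (mem_cm x h 1)) (mem_cm x h (i + 1))

theorem cm_le (h : Act p x K) {k : G} (hk : k ∈ K) : cm x k ≤ K := by
  rw [cm, closure_le]
  rintro _ ⟨i, rfl⟩
  exact mul_mem (inv_mem hk) (h.conj_mem hk i)

theorem cm_le_commutator {U : Subgroup G} {k : G} (hk : k ∈ U) : cm x k ≤ ⁅U, zpowers x⁆ := by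
  rw [cm, closure_le]
  rintro _ ⟨i, rfl⟩
  have : k⁻¹ * (x ^ i * k * (x ^ i)⁻¹) = ⁅k⁻¹, x ^ i⁆ := by rw [commutatorElement_def]; group
  rw [this]
  exact commutator_mem_commutator (inv_mem hk) (pow_mem (mem_zpowers x) i)

theorem commutator_le_iSup [Finite G] :
    ⁅K, zpowers x⁆ ≤ ⨆ h : ↥K, cm x (h : G) := by
  rw [commutator_le]
  intro k hk a ha
  obtain ⟨i, rfl⟩ := (mem_powers_iff_mem_zpowers (x := x) (y := a)).2 ha
  refine mem_iSup_of_mem (⟨k⁻¹, inv_mem hk⟩ : ↥K) ?_
  have : ⁅k, x ^ i⁆ = k⁻¹⁻¹ * (x ^ i * k⁻¹ * (x ^ i)⁻¹) := by rw [commutatorElement_def]; group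
  rw [this]
  exact mem_cm x k⁻¹ i

theorem map_cm_conj {c h : G} (hc : c ∈ centralizer {x}) :
    (cm x h).map (MulAut.conj c).toMonoidHom = cm x (c * h * c⁻¹) := by
  rw [map_cm]
  have : MulAut.conj c x = x := by
    rw [MulAut.conj_apply, mem_centralizer_singleton_iff.1 hc, mul_inv_cancel_right]
  show cm (MulAut.conj c x) (MulAut.conj c h) = _
  rw [this, MulAut.conj_apply]

theorem mem_cm_conj {c h v : G} (hc : c ∈ centralizer {x}) (hv : v ∈ cm x h) :
    c * v * c⁻¹ ∈ cm x (c * h * c⁻¹) := by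
  rw [← map_cm_conj hc]
  exact ⟨v, hv, rfl⟩

/-- Fixed points lift through homomorphisms. -/
theorem C0_map_le [Finite G] {G' : Type*} [Group G'] (h : Act p x K) (f : G →* G') :
    C0 (f x) (K.map f) ≤ (C0 x K).map f := by
  refine iSup_le fun k' => ?_
  obtain ⟨k, hk, hkf⟩ := k'.2
  rw [← hkf]
  have hle := cm_le h hk
  have h' := h.mono hle (mem_normalizer_cm x k)
  have key := map_inf_centralizer f h'.aN h'.cop h'.sol
  rw [MonoidHom.map_zpowers, centralizer_singleton_eq, centralizer_singleton_eq, map_cm] at key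
  rw [← key]
  exact map_mono fun c hc => mem_C0_of_cm hk hc.1 hc.2

/-- The statement for proper invariant subgroups. -/
def Below (x : G) (K : Subgroup G) : Prop :=
  ∀ U : Subgroup G, U ≤ K → x ∈ normalizer (U : Set G) → U ≠ K →
    ⁅U, zpowers x⁆ ⊓ centralizer {x} ≤ C0 x U

theorem Below.apply (h : Below x K) {U : Subgroup G} (hU : U ≤ K)
    (hn : x ∈ normalizer (U : Set G)) (hne : U ≠ K) :
    ⁅U, zpowers x⁆ ⊓ centralizer {x} ≤ C0 x K :=
  (h U hU hn hne).trans (C0_mono hU)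

theorem le_C0_of_cm_eq {h : G} (hh : h ∈ K) (he : cm x h = K) : K ⊓ centralizer {x} ≤ C0 x K :=
  fun _ hc => mem_C0_of_cm hh (he.symm ▸ hc.1) hc.2

theorem C0_le [Finite G] (h : Act p x K) : C0 x K ≤ K :=
  iSup_le fun k => inf_le_left.trans (cm_le h k.2)

/-- An element is in a subgroup when a coprime power is. -/
theorem mem_of_pow_mem {H : Subgroup G} [Finite G] {w : G} (hcop : (orderOf w).Coprime p)
    (h : w ^ p ∈ H) : w ∈ H := by
  obtain ⟨k, hk⟩ := exists_pow_eq_self_of_coprime hcop.symm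
  rw [← hk]
  exact pow_mem h k

theorem orderOf_coprime (h : Act p x K) {w : G} (hw : w ∈ K) : (orderOf w).Coprime p :=
  h.hc.coprime_dvd_left (orderOf_dvd_natCard K hw)

/-- The averaging homomorphism on an invariant abelian subgroup. -/
theorem exists_norm [Finite G] (h : Act p x K) {V : Subgroup G} (hV : V ≤ K)
    (hn : x ∈ normalizer (V : Set G)) (hab : ∀ a ∈ V, ∀ b ∈ V, a * b = b * a) :
    ∃ N : ↥V →* ↥V, (∀ v : ↥V, (N v : G) ∈ centralizer {x}) ∧
      (∀ v : ↥V, (v : G) ∈ centralizer {x} → N v = v ^ p) ∧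
      (∀ (v : ↥V) (hv : x * (v : G) * x⁻¹ ∈ V), N ⟨_, hv⟩ = N v) ∧
      (∀ Y : Subgroup G, x ∈ normalizer (Y : Set G) → ∀ v : ↥V, (v : G) ∈ Y → (N v : G) ∈ Y) := by
  classical
  haveI : IsMulCommutative ↥V := IsMulCommutative.of_comm fun a b => Subtype.ext (hab a a.2 b b.2)
  open scoped IsMulCommutative in
  let c : ℕ → ↥V →* ↥V := fun i =>
    { toFun := fun v => ⟨x ^ i * v * (x ^ i)⁻¹, conj_mem_of_mem_normalizer (pow_mem hn i) v.2⟩
      map_one' := Subtype.ext (by simp)
      map_mul' := fun a b => Subtype.ext (by simp [mul_assoc]) }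
  open scoped IsMulCommutative in
  let N : ↥V →* ↥V := ∏ i ∈ Finset.range p, c i
  have hN : ∀ v, N v = ∏ i ∈ Finset.range p, c i v := fun v => MonoidHom.finsetProd_apply ..
  have hshift : ∀ v : ↥V, ∀ hv : x * (v : G) * x⁻¹ ∈ V, N ⟨_, hv⟩ = N v := by
    intro v hv
    open scoped IsMulCommutative in
    rw [hN, hN]
    have h1 : ∀ i, c i ⟨_, hv⟩ = c (i + 1) v := fun i => Subtype.ext (by
      show x ^ i * (x * (v : G) * x⁻¹) * (x ^ i)⁻¹ = x ^ (i + 1) * (v : G) * (x ^ (i + 1))⁻¹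
      rw [pow_succ]; group)
    have h2 : c p v = c 0 v := Subtype.ext (by
      show x ^ p * (v : G) * (x ^ p)⁻¹ = x ^ 0 * (v : G) * (x ^ 0)⁻¹
      rw [h.hx, pow_zero])
    simp only [h1]
    have e1 := Finset.prod_range_succ (fun i => c i v) p
    have e2 := Finset.prod_range_succ' (fun i => c i v) p
    rw [e1, h2] at e2
    exact (mul_right_cancel e2).symm
  refine ⟨N, fun v => ?_, fun v hv => ?_, hshift, fun Y hY v hvY => ?_⟩
  · rw [mem_centralizer_singleton_iff]
    have hxv : x * (v : G) * x⁻¹ ∈ V := conj_mem_of_mem_normalizer hn v.2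
    have h3 : x * (N v : G) * x⁻¹ = (N v : G) := by
      have h4 : x * (N v : G) * x⁻¹ = (N ⟨_, hxv⟩ : G) := by
        open scoped IsMulCommutative in
        rw [hN, hN]
        let d : ↥V →* G :=
          { toFun := fun w => x * (w : G) * x⁻¹
            map_one' := by simp
            map_mul' := fun a b => by simp [mul_assoc] }
        have hd : ∀ w : ↥V, d w = ((⟨x * (w : G) * x⁻¹, conj_mem_of_mem_normalizer hn w.2⟩ : ↥V) : G) :=
          fun w => rfl
        let d' : ↥V →* ↥V :=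
          { toFun := fun w => ⟨x * (w : G) * x⁻¹, conj_mem_of_mem_normalizer hn w.2⟩
            map_one' := Subtype.ext (by simp)
            map_mul' := fun a b => Subtype.ext (by simp [mul_assoc]) }
        show ((d' (∏ i ∈ Finset.range p, c i v) : ↥V) : G) = _
        rw [map_prod]
        congr 1
        refine Finset.prod_congr rfl fun i _ => Subtype.ext ?_
        show x * (x ^ i * (v : G) * (x ^ i)⁻¹) * x⁻¹ = x ^ i * (x * (v : G) * x⁻¹) * (x ^ i)⁻¹
        have hc : x * x ^ i = x ^ i * x := (Commute.self_pow x i).eq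
        calc x * (x ^ i * (v : G) * (x ^ i)⁻¹) * x⁻¹ = (x * x ^ i) * (v : G) * (x * x ^ i)⁻¹ := by
              group
          _ = _ := by rw [hc]; group
      rw [h4, hshift v hxv]
    exact mul_inv_eq_iff_eq_mul.1 h3 |>.symm
  · open scoped IsMulCommutative in
    rw [hN, Finset.prod_eq_pow_card (b := v) fun i _ => ?_, Finset.card_range]
    apply Subtype.ext
    show x ^ i * (v : G) * (x ^ i)⁻¹ = v
    exact conj_eq_of_commute ((Commute.pow_left (mem_centralizer_singleton_iff.1 hv).symm i).eq)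
  · open scoped IsMulCommutative in
    rw [hN]
    have : ∏ i ∈ Finset.range p, c i v ∈ Y.subgroupOf V :=
      Subgroup.prod_mem _ fun i _ => conj_mem_of_mem_normalizer (pow_mem hY i) hvY
    exact this

end Cfsg.Agent.CoprimeGen
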