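import Cfsg.Agent.Lib.CoprimeGen.Tools

/-!
Fixed points in the subgroups `[h, P]`: there are few products of two fixed points.
-/

set_option autoImplicit false

namespace Cfsg.Agent.CoprimeGen

open Subgroup
open scoped commutatorElement
open Cfsg.Agent.CoprimeAct Cfsg.Agent.SolvBasic

universe u

variable {G : Type u} [Group G] [Finite G] {p : ℕ} {x : G} {K : Subgroup G}

theorem exists_not_mem_prod (h : Act p x K) (hp : Odd p) {V E : Subgroup G} (hVK : V ≤ K)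
    (hxV : x ∈ normalizer (V : Set G)) (hab : ∀ a ∈ V, ∀ b ∈ V, a * b = b * a)
    (hEV : E ≤ normalizer (V : Set G)) (hEx : x ∈ normalizer (E : Set G))
    (hEab : ∀ a ∈ E, ∀ b ∈ E, a * b = b * a)
    (hE1 : E ≠ ⊥)
    (hEmin : ∀ Y ≤ E, x ∈ normalizer (Y : Set G) → Y = ⊥ ∨ Y = E)
    (hEC : E ⊓ centralizer {x} = ⊥) (hCVE : V ⊓ centralizer (E : Set G) = ⊥)
    (hVE : V ≤ ⁅V, E⁆) (hW : V ⊓ centralizer {x} ≠ ⊥) {g : G}
    (hg : g ∈ normalizer (V : Set G)) :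
    ∃ v ∈ V, ∀ a ∈ V ⊓ centralizer {x}, ∀ b ∈ V ⊓ centralizer {x}, v ≠ g⁻¹ * a * g * b := by
  classical
  set W := V ⊓ centralizer {x} with hWdef
  have hWV : W ≤ V := inf_le_left
  have hWC : ∀ w ∈ W, w * x = x * w := fun w hw =>
    mem_centralizer_singleton_iff.1 (mem_inf.1 hw).2
  -- a fixed element does not stay fixed under conjugation by `E`
  have hsep : ∀ e ∈ E, e ≠ 1 → ∀ w ∈ W, e * w * e⁻¹ ∈ centralizer {x} → w = 1 := by
    intro e he he1 w hw hew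
    have hx1 : x * (e * w * e⁻¹) * x⁻¹ = e * w * e⁻¹ := by
      rw [← (mem_centralizer_singleton_iff.1 hew)]; group
    have hxw : x * w * x⁻¹ = w := by rw [← hWC w hw]; group
    set c := e⁻¹ * (x * e * x⁻¹) with hc
    have hcE : c ∈ E := mul_mem (inv_mem he) (conj_mem_of_mem_normalizer hEx he)
    have hcw : c * w = w * c := by
      have h1 : (x * e * x⁻¹) * w * (x * e * x⁻¹)⁻¹ = e * w * e⁻¹ := by
        rw [← hx1]
        conv_lhs => rw [← hxw]
        group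
      have h2 : c * w * c⁻¹ = w := by
        rw [hc, show e⁻¹ * (x * e * x⁻¹) * w * (e⁻¹ * (x * e * x⁻¹))⁻¹ =
          e⁻¹ * ((x * e * x⁻¹) * w * (x * e * x⁻¹)⁻¹) * e by group, h1]
        group
      exact mul_inv_eq_iff_eq_mul.1 h2
    have hc1 : c ≠ 1 := fun hc1 => he1 (mem_bot.1 (hEC ▸ mem_inf.2 ⟨he, by
      rw [hc, inv_mul_eq_one] at hc1
      rw [mem_centralizer_singleton_iff]
      exact eq_mul_inv_iff_mul_eq.1 hc1⟩))
    rcases hEmin (E ⊓ centralizer {w}) inf_le_left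
      (mem_normalizer_inf hEx (mem_normalizer_centralizer_singleton (hWC w hw).symm)) with h0 | h0
    · exact absurd (mem_bot.1 (h0 ▸ mem_inf.2 ⟨hcE, mem_centralizer_singleton_iff.2 hcw⟩)) hc1
    · refine mem_bot.1 (hCVE ▸ mem_inf.2 ⟨hWV hw, ?_⟩)
      rw [mem_centralizer_iff]
      intro a ha
      rw [← h0] at ha
      exact mem_centralizer_singleton_iff.1 (mem_inf.1 ha).2
  by_contra hcon
  push Not at hcon
  have hle : Nat.card V ≤ Nat.card W * Nat.card W := by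
    rw [← Nat.card_prod]
    refine Nat.card_le_card_of_surjective (fun ab : ↥W × ↥W => (⟨g⁻¹ * (ab.1 : G) * g * ab.2,
      mul_mem (by
        have := conj_mem_of_mem_normalizer (inv_mem hg) (hWV ab.1.2)
        rwa [inv_inv] at this) (hWV ab.2.2)⟩ : ↥V)) fun v => ?_
    obtain ⟨a, ha, b, hb, hv⟩ := hcon v v.2
    exact ⟨(⟨a, ha⟩, ⟨b, hb⟩), Subtype.ext hv.symm⟩
  obtain ⟨N, hN1, hN2, hN3, hN4⟩ := exists_norm h hVK hxV hab
  set D := N.ker.map V.subtype with hD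
  have hDV : D ≤ V := map_subtype_le _
  have hmemD : ∀ {v : G} (hv : v ∈ V), (N ⟨v, hv⟩ = 1 ↔ v ∈ D) := fun {v} hv =>
    ⟨fun h1 => ⟨⟨v, hv⟩, h1, rfl⟩, fun ⟨w, hw, hwv⟩ => by
      rw [← show w = ⟨v, hv⟩ from Subtype.ext hwv]; exact hw⟩
  have hDW : Nat.card D = Nat.card V / Nat.card W := by
    have hrange : N.range = W.subgroupOf V := by
      refine le_antisymm ?_ fun w hw => ?_
      · rintro _ ⟨v, rfl⟩
        exact mem_inf.2 ⟨(N v).2, hN1 v⟩
      · obtain ⟨k, hk⟩ := exists_pow_eq_self_of_coprime (orderOf_coprime h (hVK w.2)).symm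
        have hwC : (w : G) ∈ centralizer {x} := (mem_inf.1 hw).2
        refine ⟨w ^ k, ?_⟩
        rw [map_pow, hN2 w hwC]
        exact Subtype.ext (by rw [Subgroup.coe_pow, Subgroup.coe_pow]; exact hk)
    have h1 := N.ker.index_mul_card
    rw [index_ker, hrange, Nat.card_congr (subgroupOfEquivOfLe hWV).toEquiv] at h1
    rw [hD, card_map_of_injective V.subtype_injective, ← h1, Nat.mul_div_cancel_left _ Nat.card_pos]
  have hxinv : ∀ {v : G}, v ∈ V → x⁻¹ * v * x ∈ V := fun {v} hv => by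
    have := conj_mem_of_mem_normalizer (inv_mem hxV) hv
    rwa [inv_inv] at this
  have hxD : ∀ v ∈ V, x * v * x⁻¹ * v⁻¹ ∈ D := by
    intro v hv
    have hv1 := conj_mem_of_mem_normalizer hxV hv
    rw [← hmemD (mul_mem hv1 (inv_mem hv))]
    have : (⟨x * v * x⁻¹ * v⁻¹, mul_mem hv1 (inv_mem hv)⟩ : ↥V) = ⟨_, hv1⟩ * (⟨v, hv⟩)⁻¹ := rfl
    rw [this, map_mul, map_inv, hN3 ⟨v, hv⟩ hv1, mul_inv_cancel]
  -- `E` normalises the kernel of the averaging map
  have hED : ∀ e ∈ E, e ≠ 1 → e ∈ normalizer (D : Set G) := by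
    intro e he he1
    have hef : (x * e * x⁻¹) * e = e * (x * e * x⁻¹) :=
      hEab _ (conj_mem_of_mem_normalizer hEx he) _ he
    have hge : Nat.card W * Nat.card W ≤ Nat.card V := by
      rw [← Nat.card_prod]
      refine Nat.card_le_card_of_injective (fun ab : ↥W × ↥W => (⟨e * (ab.1 : G) * e⁻¹ * ab.2,
        mul_mem (conj_mem_of_mem_normalizer (hEV he) (hWV ab.1.2)) (hWV ab.2.2)⟩ : ↥V))
        fun ⟨a, b⟩ ⟨a', b'⟩ h0 => ?_
      have h1 : e * (a : G) * e⁻¹ * b = e * a' * e⁻¹ * b' := congrArg Subtype.val h0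
      have h2 : e * ((a' : G)⁻¹ * a) * e⁻¹ = (b' : G) * (b : G)⁻¹ := by
        calc e * ((a' : G)⁻¹ * a) * e⁻¹
            = (e * (a' : G) * e⁻¹)⁻¹ * (e * (a : G) * e⁻¹ * b) * (b : G)⁻¹ := by group
          _ = _ := by rw [h1]; group
      have h3 := hsep e he he1 _ (mul_mem (inv_mem a'.2) a.2)
        (h2 ▸ (mem_inf.1 (mul_mem b'.2 (inv_mem b.2))).2)
      rw [inv_mul_eq_one] at h3
      rw [← h3] at h1
      have h4 : (b : G) = b' := mul_left_cancel h1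
      rw [Subtype.ext h3.symm, Subtype.ext h4]
    have hcard : Nat.card D = Nat.card W := by
      rw [hDW, le_antisymm hle hge, Nat.mul_div_cancel_left _ Nat.card_pos]
    -- the map `φ`
    have hu : ∀ w : ↥W, e * (w : G) * e⁻¹ ∈ V := fun w =>
      conj_mem_of_mem_normalizer (hEV he) (hWV w.2)
    have hφD : ∀ w : ↥W, x * (e * (w : G) * e⁻¹) * x⁻¹ * (x⁻¹ * (e * (w : G) * e⁻¹) * x)⁻¹ ∈ D := by
      intro w
      have hv := hxD (x⁻¹ * (e * (w : G) * e⁻¹) * x) (hxinv (hu w))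
      have hv2 := hxD _ (hu w)
      have : x * (e * (w : G) * e⁻¹) * x⁻¹ * (x⁻¹ * (e * (w : G) * e⁻¹) * x)⁻¹ =
          (x * (e * (w : G) * e⁻¹) * x⁻¹ * (e * (w : G) * e⁻¹)⁻¹) *
            (x * (x⁻¹ * (e * (w : G) * e⁻¹) * x) * x⁻¹ *
              (x⁻¹ * (e * (w : G) * e⁻¹) * x)⁻¹) := by group
      rw [this]
      exact mul_mem hv2 hv
    let φ : ↥W → ↥D := fun w => ⟨_, hφD w⟩
    have hφinj : Function.Injective φ := by
      intro a b hab'
      have h0 : x * (e * (a : G) * e⁻¹) * x⁻¹ * (x⁻¹ * (e * (a : G) * e⁻¹) * x)⁻¹ =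
          x * (e * (b : G) * e⁻¹) * x⁻¹ * (x⁻¹ * (e * (b : G) * e⁻¹) * x)⁻¹ :=
        congrArg Subtype.val hab'
      set A := e * (a : G) * e⁻¹ with hA
      set B := e * (b : G) * e⁻¹ with hB'
      have hA' : x * A * x⁻¹ ∈ V := conj_mem_of_mem_normalizer hxV (hu a)
      have hB1 : x * B * x⁻¹ ∈ V := conj_mem_of_mem_normalizer hxV (hu b)
      have hq : x * (B⁻¹ * A) * x⁻¹ = x⁻¹ * (B⁻¹ * A) * x := by
        have hcomm := hab _ (inv_mem hB1) _ hA'
        have hcomm2 := hab _ (inv_mem (hxinv (hu b))) _ (hxinv (hu a))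
        calc x * (B⁻¹ * A) * x⁻¹ = (x * B * x⁻¹)⁻¹ * (x * A * x⁻¹) := by group
          _ = (x * B * x⁻¹)⁻¹ * (x * A * x⁻¹ * (x⁻¹ * A * x)⁻¹) * (x⁻¹ * A * x) := by group
          _ = (x * B * x⁻¹)⁻¹ * (x * B * x⁻¹ * (x⁻¹ * B * x)⁻¹) * (x⁻¹ * A * x) := by rw [h0]
          _ = _ := by group
      have hx2 : Commute (x ^ 2) (B⁻¹ * A) := by
        show x ^ 2 * (B⁻¹ * A) = B⁻¹ * A * x ^ 2
        calc x ^ 2 * (B⁻¹ * A) = x * (x * (B⁻¹ * A) * x⁻¹) * x := by rw [pow_two]; group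
          _ = x * (x⁻¹ * (B⁻¹ * A) * x) * x := by rw [hq]
          _ = _ := by rw [pow_two]; group
      have hxC : Commute x (B⁻¹ * A) := by
        obtain ⟨m, hm⟩ := hp
        have := hx2.pow_left (m + 1)
        rwa [← pow_mul, show 2 * (m + 1) = p + 1 by omega, pow_succ, h.hx, one_mul] at this
      have h3 := hsep e he he1 _ (mul_mem (inv_mem b.2) a.2) (by
        rw [show e * ((b : G)⁻¹ * a) * e⁻¹ = B⁻¹ * A by rw [hA, hB']; group,
          mem_centralizer_singleton_iff]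
        exact hxC.eq.symm)
      exact Subtype.ext (inv_mul_eq_one.1 h3).symm
    have hφsurj : Function.Surjective φ :=
      ((Nat.bijective_iff_injective_and_card φ).2 ⟨hφinj, hcard.symm⟩).2
    refine mem_normalizer_of_map_conj_le ?_
    rintro _ ⟨d, hd, rfl⟩
    obtain ⟨w, hw⟩ := hφsurj ⟨d, hd⟩
    have hd' : d = x * (e * (w : G) * e⁻¹) * x⁻¹ * (x⁻¹ * (e * (w : G) * e⁻¹) * x)⁻¹ :=
      (congrArg Subtype.val hw).symm
    show e * d * e⁻¹ ∈ D
    set u := e * (w : G) * e⁻¹ with hu'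
    have hxw : x * (w : G) * x⁻¹ = w := by rw [← hWC w w.2]; group
    have he2 : e * (x * u * x⁻¹) * e⁻¹ = x * (e * (x⁻¹ * u * x) * e⁻¹) * x⁻¹ := by
      have e1 : e * (x * u * x⁻¹) * e⁻¹ = (x * e * x⁻¹) * u * (x * e * x⁻¹)⁻¹ := by
        calc e * (x * u * x⁻¹) * e⁻¹
            = e * (x * e * x⁻¹) * (x * (w : G) * x⁻¹) * (e * (x * e * x⁻¹))⁻¹ := by
              rw [hu']; group
          _ = (x * e * x⁻¹) * e * (w : G) * ((x * e * x⁻¹) * e)⁻¹ := by rw [hxw, hef]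
          _ = _ := by rw [hu']; group
      rw [e1]; group
    have hm1 : e * (x⁻¹ * u * x) * e⁻¹ ∈ V :=
      conj_mem_of_mem_normalizer (hEV he) (hxinv (hu w))
    have hfin := hxD _ hm1
    rw [← he2] at hfin
    have : e * d * e⁻¹ = e * (x * u * x⁻¹) * e⁻¹ * (e * (x⁻¹ * u * x) * e⁻¹)⁻¹ := by
      rw [hd']; group
    rw [this]
    exact hfin
  -- hence `E` acts trivially modulo the kernel
  have hEDall : E ≤ normalizer (D : Set G) := fun e he => by
    rcases eq_or_ne e 1 with rfl | he1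
    · exact one_mem _
    · exact hED e he he1
  have hxDn : x ∈ normalizer (D : Set G) := by
    refine mem_normalizer_of_map_conj_le ?_
    rintro _ ⟨d, hd, rfl⟩
    show x * d * x⁻¹ ∈ D
    have : x * d * x⁻¹ = x * d * x⁻¹ * d⁻¹ * d := by group
    rw [this]
    exact mul_mem (hxD d (hDV hd)) hd
  let S : Subgroup G :=
    { carrier := {a | a ∈ E ∧ ∀ v ∈ V, a * v * a⁻¹ * v⁻¹ ∈ D}
      one_mem' := ⟨one_mem _, fun v _ => by simp⟩
      mul_mem' := by
        rintro a b ⟨ha, ha'⟩ ⟨hb, hb'⟩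
        refine ⟨mul_mem ha hb, fun v hv => ?_⟩
        have h1 : a * b * v * (a * b)⁻¹ * v⁻¹ =
            (a * (b * v * b⁻¹) * a⁻¹ * (b * v * b⁻¹)⁻¹) * (b * v * b⁻¹ * v⁻¹) := by group
        rw [h1]
        exact mul_mem (ha' _ (conj_mem_of_mem_normalizer (hEV hb) hv)) (hb' v hv)
      inv_mem' := by
        rintro a ⟨ha, ha'⟩
        refine ⟨inv_mem ha, fun v hv => ?_⟩
        have h1 : a⁻¹ * v * a⁻¹⁻¹ * v⁻¹ =
            (a * (a⁻¹ * v * a⁻¹⁻¹) * a⁻¹ * (a⁻¹ * v * a⁻¹⁻¹)⁻¹)⁻¹ := by group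
        rw [h1]
        exact inv_mem (ha' _ (conj_mem_of_mem_normalizer (inv_mem (hEV ha)) hv)) }
  have hSx : x ∈ normalizer (S : Set G) := by
    refine mem_normalizer_of_map_conj_le ?_
    rintro _ ⟨a, ⟨ha, ha'⟩, rfl⟩
    refine ⟨conj_mem_of_mem_normalizer hEx ha, fun v hv => ?_⟩
    show x * a * x⁻¹ * v * (x * a * x⁻¹)⁻¹ * v⁻¹ ∈ D
    have h1 : x * a * x⁻¹ * v * (x * a * x⁻¹)⁻¹ * v⁻¹ =
        x * (a * (x⁻¹ * v * x) * a⁻¹ * (x⁻¹ * v * x)⁻¹) * x⁻¹ := by group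
    rw [h1]
    exact conj_mem_of_mem_normalizer hxDn (ha' _ (hxinv hv))
  have hSE : S = E := by
    rcases hEmin S (fun a ha => ha.1) hSx with h0 | h0
    · exfalso
      obtain ⟨e, he, he1⟩ : ∃ e ∈ E, e ≠ 1 := by
        by_contra h1
        push Not at h1
        exact hE1 ((Subgroup.eq_bot_iff_forall _).2 h1)
      set f := x * e * x⁻¹ with hf
      have hfE : f ∈ E := conj_mem_of_mem_normalizer hEx he
      have hcS : e⁻¹ * f ∈ S := by
        refine ⟨mul_mem (inv_mem he) hfE, fun v hv => ?_⟩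
        have h1 := hxD _ (conj_mem_of_mem_normalizer (hEV he) hv)
        have h2 := conj_mem_of_mem_normalizer (hEDall hfE) (hxD v hv)
        have h3 : (e * v * e⁻¹) * (f * v * f⁻¹)⁻¹ ∈ D := by
          have h4 : (e * v * e⁻¹) * (f * v * f⁻¹)⁻¹ =
              (x * (e * v * e⁻¹) * x⁻¹ * (e * v * e⁻¹)⁻¹)⁻¹ *
                (f * (x * v * x⁻¹ * v⁻¹) * f⁻¹) := by rw [hf]; group
          rw [h4]
          exact mul_mem (inv_mem h1) h2
        have h5 := conj_mem_of_mem_normalizer (inv_mem (hEDall he)) (inv_mem h3)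
        have h6 : e⁻¹ * f * v * (e⁻¹ * f)⁻¹ * v⁻¹ =
            e⁻¹ * ((e * v * e⁻¹) * (f * v * f⁻¹)⁻¹)⁻¹ * e⁻¹⁻¹ := by group
        rw [h6]
        exact h5
      rw [h0, mem_bot, inv_mul_eq_one] at hcS
      refine he1 (mem_bot.1 (hEC ▸ mem_inf.2 ⟨he, ?_⟩))
      rw [mem_centralizer_singleton_iff]
      exact eq_mul_inv_iff_mul_eq.1 hcS
    · exact h0
  have hVD : V ≤ D := by
    refine hVE.trans ?_
    rw [commutator_le]
    intro v hv a ha
    have h1 : ⁅v, a⁆ = (a * v * a⁻¹ * v⁻¹)⁻¹ := by rw [commutatorElement_def]; group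
    rw [h1]
    exact inv_mem ((hSE.symm ▸ ha : a ∈ S).2 v hv)
  refine hW ((Subgroup.eq_bot_iff_forall _).2 fun w hw => ?_)
  have h1 : N ⟨w, hWV hw⟩ = 1 := (hmemD (hWV hw)).2 (hVD (hWV hw))
  rw [hN2 _ (mem_inf.1 hw).2] at h1
  have h2 : w ^ p = 1 := congrArg Subtype.val h1
  exact orderOf_eq_one_iff.1
    (Nat.Coprime.eq_one_of_dvd (orderOf_coprime h (hVK (hWV hw))) (orderOf_dvd_of_pow_eq_one h2))

end Cfsg.Agent.CoprimeGen
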