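import Cfsg.Agent.Lib.CoprimeGen.Counting

/-!
Fixed points in `[K, P]` are generated by the fixed points in the `[h, P]`.
-/

set_option autoImplicit false

namespace Cfsg.Agent.CoprimeGen

open Subgroup
open scoped commutatorElement
open Cfsg.Agent.CoprimeAct Cfsg.Agent.SolvBasic

universe u

variable {G : Type u} [Group G] [Finite G] {p : ℕ} {x : G} {K : Subgroup G}

/-- A minimal invariant normal subgroup is elementary abelian. -/
theorem exists_minimal_elementary (h : Act p x K) (hK1 : K ≠ ⊥) :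
    ∃ (V : Subgroup G) (q : ℕ), q.Prime ∧ V ≤ K ∧ V ≠ ⊥ ∧ K ≤ normalizer (V : Set G) ∧
      x ∈ normalizer (V : Set G) ∧ (∀ a ∈ V, ∀ b ∈ V, a * b = b * a) ∧ IsPGroup q V ∧
      (∀ Y ≤ V, K ≤ normalizer (Y : Set G) → x ∈ normalizer (Y : Set G) → Y = ⊥ ∨ Y = V) := by
  obtain ⟨V, hVK, ⟨hV1, hKV, hxV⟩, hmin⟩ := exists_minimal_le_of_wellFoundedLT
    (fun X : Subgroup G => X ≠ ⊥ ∧ K ≤ normalizer (X : Set G) ∧ x ∈ normalizer (X : Set G)) K
    ⟨hK1, le_normalizer, h.hn⟩
  have hmin' : ∀ Y ≤ V, K ≤ normalizer (Y : Set G) → x ∈ normalizer (Y : Set G) →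
      Y = ⊥ ∨ Y = V := fun Y hY h1 h2 =>
    or_iff_not_imp_left.2 fun h0 => le_antisymm hY (hmin ⟨h0, h1, h2⟩ hY)
  have hab : ∀ a ∈ V, ∀ b ∈ V, a * b = b * a := by
    rcases hmin' ⁅V, V⁆ V.commutator_le_self
      (fun k hk => mem_normalizer_commutator_of_mem (hKV hk) (hKV hk))
      (mem_normalizer_commutator_of_mem hxV hxV) with h0 | h0
    · exact fun a ha b hb => (mem_centralizer_iff.1
        (commutator_eq_bot_iff_le_centralizer.1 h0 hb) a ha)
    · exfalso
      haveI : Group.IsSolvable ↥V := @isSolvable_of_le G _ V K hVK h.hs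
      haveI : Nontrivial ↥V := nontrivial_iff_ne_bot V |>.2 hV1
      refine (Group.IsSolvable.commutator_lt_top_of_nontrivial (G := ↥V)).ne ?_
      refine map_injective V.subtype_injective ?_
      rw [map_subtype_commutator, h0, ← MonoidHom.range_eq_map, range_subtype]
  obtain ⟨q, hq, hqd⟩ := Nat.exists_prime_and_dvd
    (fun h1 => hV1 (Subgroup.card_eq_one.1 h1) : Nat.card V ≠ 1)
  haveI := Fact.mk hq
  let Y : Subgroup G :=
    { carrier := {v | v ∈ V ∧ v ^ q = 1}
      one_mem' := ⟨one_mem _, one_pow q⟩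
      mul_mem' := fun {a b} ha hb => ⟨mul_mem ha.1 hb.1, by
        rw [(show Commute a b from hab a ha.1 b hb.1).mul_pow, ha.2, hb.2, one_mul]⟩
      inv_mem' := fun {a} ha => ⟨inv_mem ha.1, by rw [inv_pow, ha.2, inv_one]⟩ }
  have hnorm : ∀ g, g ∈ normalizer (V : Set G) → g ∈ normalizer (Y : Set G) := by
    intro g hg
    refine mem_normalizer_of_map_conj_le ?_
    rintro _ ⟨v, ⟨hv, hvq⟩, rfl⟩
    exact ⟨conj_mem_of_mem_normalizer hg hv, by rw [← map_pow, hvq, map_one]⟩
  refine ⟨V, q, hq, hVK, hV1, hKV, hxV, hab, fun v => ⟨1, ?_⟩, hmin'⟩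
  rcases hmin' Y (fun v hv => hv.1) (fun k hk => hnorm k (hKV hk)) (hnorm x hxV) with h0 | h0
  · exfalso
    obtain ⟨v, hv⟩ := exists_prime_orderOf_dvd_card' q hqd
    have h1 : (v : G) ∈ Y := ⟨v.2, by
      rw [← Subgroup.coe_pow, ← hv, pow_orderOf_eq_one]; rfl⟩
    rw [h0, mem_bot] at h1
    have : v = 1 := Subtype.ext h1
    rw [this, orderOf_one] at hv
    exact hq.ne_one hv.symm
  · rw [pow_one]
    exact Subtype.ext (h0.symm ▸ v.2 : (v : G) ∈ Y).2

/-- The case of a fixed minimal subgroup. -/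
theorem fixed_minimal_case (h : Act p x K) (hp : Odd p) (hK : ⁅K, zpowers x⁆ = K)
    (hB : Below x K) (hR : Red x K) {q : ℕ} [Fact q.Prime] {V : Subgroup G} (hVK : V ≤ K)
    (hV1 : V ≠ ⊥) (hKV : K ≤ normalizer (V : Set G)) (hxV : x ∈ normalizer (V : Set G))
    (hVq : IsPGroup q V) (hfix : V ≤ centralizer {x}) : K ⊓ centralizer {x} ≤ C0 x K := by
  have hVx : ∀ v ∈ V, v * x = x * v := fun v hv => mem_centralizer_singleton_iff.1 (hfix hv)
  -- `V` is central
  have hcen : ∀ v ∈ V, ∀ k ∈ K, k * v = v * k := by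
    intro v hv k hk
    have hle : ⁅K, zpowers x⁆ ≤ centralizer (V : Set G) := by
      rw [commutator_le]
      intro k hk a ha
      rw [mem_centralizer_iff]
      intro v hv
      have hav : ∀ v ∈ V, a * v = v * a := fun v hv => by
        obtain ⟨i, rfl⟩ := mem_zpowers_iff.1 ha
        exact ((show Commute x v from (hVx v hv).symm).zpow_left i).eq
      have h1 : k⁻¹ * v * k ∈ V := by
        simpa using conj_mem_of_mem_normalizer (hKV (inv_mem hk)) hv
      have h2 := hav _ h1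
      have h3 := hav v hv
      have h4 : a * (k⁻¹ * v * k) * a⁻¹ = k⁻¹ * v * k := by rw [h2, mul_inv_cancel_right]
      have h5 : a⁻¹ * v * a = v := by rw [mul_assoc, ← h3]; group
      calc v * ⁅k, a⁆ = k * (k⁻¹ * v * k) * (a * k⁻¹ * a⁻¹) := by
            rw [commutatorElement_def]; group
        _ = k * (a * (k⁻¹ * v * k) * a⁻¹) * (a * k⁻¹ * a⁻¹) := by rw [h4]
        _ = k * a * k⁻¹ * (v * a⁻¹) := by group
        _ = k * a * k⁻¹ * (a⁻¹ * v) := by
          rw [show v * a⁻¹ = a⁻¹ * v by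
            conv_rhs => rw [← h5]
            rw [h5]; exact eq_inv_mul_of_mul_eq (by rw [← mul_assoc, h3, mul_inv_cancel_right])]
        _ = ⁅k, a⁆ * v := by rw [commutatorElement_def]; group
    exact (mem_centralizer_iff.1 (hle (hK.symm ▸ hk)) v hv).symm
  -- `V` lies in the derived group
  have hxK' : x ∈ normalizer (⁅K, K⁆ : Subgroup G) :=
    mem_normalizer_commutator_of_mem h.hn h.hn
  have hVD : V ≤ ⁅K, K⁆ := by
    set D := ⁅K, K⁆ with hD
    set M := normalizer (D : Set G) with hM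
    have hKM : K ≤ M := normalizer_commutator_ge_left K K
    haveI : (D.subgroupOf M).Normal := normal_subgroupOf_of_le_normalizer le_rfl
    set f := QuotientGroup.mk' (D.subgroupOf M) with hf
    have hmap : (K.subgroupOf M).map M.subtype = K := map_subgroupOf_eq_of_le hKM
    have hA : Act p (⟨x, hxK'⟩ : ↥M) (K.subgroupOf M) := by
      refine ⟨Subtype.ext h.hx, ?_, ?_, ?_⟩
      · rw [mem_normalizer_iff]
        exact fun v => mem_normalizer_iff.1 h.hn (v : G)
      · rw [Nat.card_congr (subgroupOfEquivOfLe hKM).toEquiv]; exact h.hc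
      · have := h.hs
        exact Group.isSolvable_of_isSolvable_injective
          (f := (subgroupOfEquivOfLe hKM).toMonoidHom) (subgroupOfEquivOfLe hKM).injective
    have hA' := hA.map f
    have habel : ⁅(K.subgroupOf M).map f, (K.subgroupOf M).map f⁆ = ⊥ := by
      rw [← map_commutator, Subgroup.map_eq_bot_iff, QuotientGroup.ker_mk']
      intro v hv
      show (v : G) ∈ D
      have := mem_map_of_mem M.subtype hv
      rwa [map_commutator, hmap] at this
    haveI : IsMulCommutative ↥((K.subgroupOf M).map f) :=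
      IsMulCommutative.of_comm fun a b => Subtype.ext
        (mem_centralizer_iff.1 (commutator_eq_bot_iff_le_centralizer.1 habel b.2) a a.2)
    have hbot := centralizer_inf_commutator_eq_bot hA'.aN hA'.cop
    have hKc : ⁅(K.subgroupOf M).map f, zpowers (f ⟨x, hxK'⟩)⁆ = (K.subgroupOf M).map f := by
      rw [← MonoidHom.map_zpowers, ← map_commutator]
      congr 1
      refine map_injective M.subtype_injective ?_
      rw [map_commutator, MonoidHom.map_zpowers, hmap]
      exact hK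
    rw [hKc, centralizer_singleton_eq] at hbot
    intro v hv
    have h1 : f ⟨v, hKM (hVK hv)⟩ ∈ (⊥ : Subgroup (↥M ⧸ D.subgroupOf M)) := by
      rw [← hbot]
      refine mem_inf.2 ⟨mem_inf.2 ⟨⟨_, hVK hv, rfl⟩, ?_⟩, ⟨_, hVK hv, rfl⟩⟩
      rw [mem_centralizer_singleton_iff, ← map_mul, ← map_mul]
      exact congrArg f (Subtype.ext (hVx v hv))
    rw [mem_bot, hf, QuotientGroup.mk'_apply, QuotientGroup.eq_one_iff] at h1
    exact h1
  obtain ⟨P, hVP, hPn⟩ := exists_invariant_sylow_ge h.aN h.cop h.sol hVK hVq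
    (zpowers_le.2 hxV)
  set Q := (P : Subgroup K).map K.subtype with hQ
  have hQK : Q ≤ K := map_subtype_le _
  have hQx : x ∈ normalizer (Q : Set G) := hPn (mem_zpowers x)
  by_cases hQe : Q = K
  · have hKq : IsPGroup q K := hQe ▸ P.isPGroup'.map K.subtype
    haveI := hKq.isNilpotent
    exact nilpotent_case h hp hK hB hR
  -- transfer
  have hVQ : V ≤ ⁅Q, Q⁆ := by
    intro v hv
    set v' : ↥K := ⟨v, hVK hv⟩ with hv'
    set φ : ↥(P : Subgroup K) →* Abelianization ↥(P : Subgroup K) := Abelianization.of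
    have key : ∀ (k : ℕ) (g₀ : ↥K), g₀⁻¹ * v' ^ k * g₀ ∈ (P : Subgroup K) →
        g₀⁻¹ * v' ^ k * g₀ = v' ^ k := fun k g₀ _ => by
      have hc : Commute g₀ v' := Subtype.ext (hcen v hv g₀ g₀.2)
      rw [mul_assoc, ← (hc.pow_right k).eq, inv_mul_cancel_left]
    have h1 := MonoidHom.transfer_eq_pow φ v' key
    have h2 : φ.transfer v' = 1 := by
      refine Abelianization.commutator_subset_ker _ ?_
      have hvD := hVD hv
      rw [← map_subtype_commutator] at hvD
      obtain ⟨w, hw, hwv⟩ := hvD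
      exact (show w = v' from Subtype.ext hwv) ▸ hw
    rw [h2, eq_comm, ← MonoidHom.mem_ker, Abelianization.ker_of] at h1
    have h3 := mem_map_of_mem (K.subtype.comp (P : Subgroup K).subtype) h1
    rw [commutator_def, map_commutator, ← Subgroup.map_map, ← MonoidHom.range_eq_map,
      range_subtype] at h3
    change v ^ (P : Subgroup K).index ∈ ⁅Q, Q⁆ at h3
    refine mem_of_pow_mem ?_ h3
    obtain ⟨n, hn⟩ := hVq ⟨v, hv⟩
    exact (((Fact.out : q.Prime).coprime_iff_not_dvd.2 P.not_dvd_index).pow_left n).coprime_dvd_left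
      (orderOf_dvd_of_pow_eq_one (congrArg Subtype.val hn))
  set CQ := Q ⊓ centralizer {x} with hCQ
  set M := ⁅Q, zpowers x⁆ ⊔ ⁅CQ, CQ⁆ with hM
  have hQn : Q ≤ normalizer (⁅Q, zpowers x⁆ : Subgroup G) := normalizer_commutator_ge_left _ _
  have hA := h.mono hQK hQx
  have hQM : ⁅Q, Q⁆ ≤ M := by
    rw [commutator_le]
    intro a ha b hb
    obtain ⟨d, hd, c, hc, rfl⟩ := exists_commutator_mul hA.aN hA.cop hA.sol ha
    obtain ⟨d', hd', c', hc', rfl⟩ := exists_commutator_mul hA.aN hA.cop hA.sol hb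
    rw [centralizer_singleton_eq] at hc hc'
    have hdQ : d ∈ Q := commutator_le_left hA.aN hd
    have hd'Q : d' ∈ Q := commutator_le_left hA.aN hd'
    have hcQ : c ∈ Q := (mem_inf.1 hc).1
    have hc'Q : c' ∈ Q := (mem_inf.1 hc').1
    -- an element of `⁅Q, P⁆` times anything in `Q` has its commutator inside
    have hin : ∀ e ∈ ⁅Q, zpowers x⁆, ∀ y ∈ Q, ⁅y, e⁆ ∈ M := fun e he y hy => by
      have : ⁅y, e⁆ = (y * e * y⁻¹) * e⁻¹ := by rw [commutatorElement_def]
      rw [this]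
      exact mem_sup_left (mul_mem (conj_mem_of_mem_normalizer (hQn hy) he) (inv_mem he))
    have hdM : d ∈ M := mem_sup_left hd
    have hd'M : d' ∈ M := mem_sup_left hd'
    have hy : d' * c' ∈ Q := mul_mem hd'Q hc'Q
    have hcc : ⁅c, c'⁆ ∈ M := mem_sup_right (commutator_mem_commutator hc hc')
    have e1 : ⁅d * c, d' * c'⁆ = d * (⁅c, d'⁆ * (d' * ⁅c, c'⁆ * d'⁻¹)) * d⁻¹ * ⁅d' * c', d⁆⁻¹ := by
      simp only [commutatorElement_def]; group
    rw [e1]
    exact mul_mem (mul_mem (mul_mem hdM (mul_mem (hin d' hd' c hcQ)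
      (mul_mem (mul_mem hd'M hcc) (inv_mem hd'M)))) (inv_mem hdM)) (inv_mem (hin d hd _ hy))
  have hCC : ⁅CQ, CQ⁆ ≤ C0 x K := by
    have hsub : CQ ≤ V ⊔ C0 x K := by
      refine (inf_le_inf hQK le_rfl).trans ((hR V hVK hV1 hKV hxV).trans ?_)
      rw [inf_eq_left.2 hfix, sup_comm]
    rw [commutator_le]
    intro a ha b hb
    have hC0n : C0 x K ≤ normalizer (V : Set G) := (C0_le h).trans hKV
    obtain ⟨v, hv, c, hc, rfl⟩ := (mem_sup_iff_of_le_normalizer hC0n).1 (hsub ha)
    obtain ⟨v', hv', c', hc', rfl⟩ := (mem_sup_iff_of_le_normalizer hC0n).1 (hsub hb)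
    have h1 : Commute v c := (hcen v hv c (C0_le h hc)).symm
    have h2 : Commute v c' := (hcen v hv c' (C0_le h hc')).symm
    have h3 : Commute v' c := (hcen v' hv' c (C0_le h hc)).symm
    have h4 : Commute v' c' := (hcen v' hv' c' (C0_le h hc')).symm
    have h5 : Commute v v' := hcen v' hv' v (hVK hv)
    have : ⁅v * c, v' * c'⁆ = ⁅c, c'⁆ := by
      have e1 : ⁅v * c, v' * c'⁆ = v * ⁅c, v' * c'⁆ * v⁻¹ * ⁅v, v' * c'⁆ := by
        simp only [commutatorElement_def]; group
      rw [e1, commutatorElement_eq_one_iff_commute.2 (h5.mul_right h2), mul_one]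
      have e2 : ⁅c, v' * c'⁆ = ⁅c, v'⁆ * (v' * ⁅c, c'⁆ * v'⁻¹) := by
        simp only [commutatorElement_def]; group
      have e3 : v' * ⁅c, c'⁆ * v'⁻¹ = ⁅c, c'⁆ := conj_eq_of_commute
        ((((h3.mul_right h4).mul_right h3.inv_right).mul_right h4.inv_right).eq)
      have e4 : v * ⁅c, c'⁆ * v⁻¹ = ⁅c, c'⁆ := conj_eq_of_commute
        ((((h1.mul_right h2).mul_right h1.inv_right).mul_right h2.inv_right).eq)
      rw [e2, e3, commutatorElement_eq_one_iff_commute.2 h3.symm, one_mul, e4]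
    rw [this, commutatorElement_def]
    exact mul_mem (mul_mem (mul_mem hc hc') (inv_mem hc)) (inv_mem hc')
  have hV0 : V ≤ C0 x K := by
    intro v hv
    have hn2 : ⁅CQ, CQ⁆ ≤ normalizer (⁅Q, zpowers x⁆ : Subgroup G) :=
      ((commutator_mono inf_le_left inf_le_left).trans Q.commutator_le_self).trans hQn
    obtain ⟨r, hr, d, hd, hrd⟩ := (mem_sup_iff_of_le_normalizer hn2).1 (hQM (hVQ hv))
    have hdC : d ∈ centralizer {x} := C0_le_centralizer x K (hCC hd)
    have hrC : r ∈ centralizer {x} := by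
      rw [show r = v * d⁻¹ by rw [hrd, mul_inv_cancel_right]]
      exact mul_mem (hfix hv) (inv_mem hdC)
    rw [hrd]
    exact mul_mem (hB.apply hQK hQx hQe (mem_inf.2 ⟨hr, hrC⟩)) (hCC hd)
  exact hR.done hVK hV1 hKV hxV (inf_le_left.trans hV0)

/-- The case of a minimal subgroup `V` with a complement `R` and `g ∈ R` with `[g, P] = R`. -/
theorem complement_case (h : Act p x K) (hp : Odd p) (hR : Red x K)
    (hq : ∀ k ∈ K, cm x k ≠ K) {V R : Subgroup G} {r : ℕ} [Fact r.Prime]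
    (P : Sylow r K) (hPR : (P : Subgroup K).map K.subtype = R)
    (hRx : x ∈ normalizer (R : Set G)) (hVK : V ≤ K) (hV1 : V ≠ ⊥) (hVne : V ≠ K)
    (hKV : K ≤ normalizer (V : Set G)) (hxV : x ∈ normalizer (V : Set G))
    (hab : ∀ a ∈ V, ∀ b ∈ V, a * b = b * a)
    (hmin : ∀ Y ≤ V, K ≤ normalizer (Y : Set G) → x ∈ normalizer (Y : Set G) → Y = ⊥ ∨ Y = V)
    (hW : V ⊓ centralizer {x} ≠ ⊥) (hVR : V ⊔ R = K) (hRV : R ⊓ V = ⊥)
    {g : G} (hg : g ∈ R) (hgR : cm x g = R) : K ⊓ centralizer {x} ≤ C0 x K := by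
  have hRK : R ≤ K := hVR ▸ le_sup_right
  have hgK : g ∈ K := hRK hg
  have hRV' : R ≤ normalizer (V : Set G) := hRK.trans hKV
  set W := V ⊓ centralizer {x} with hWdef
  have hRfix : ∀ z ∈ R, z ∈ centralizer {x} → z ∈ C0 x K := fun z hz hzC =>
    mem_C0_of_cm hgK (hgR.symm ▸ hz) hzC
  have hWz : ∀ w ∈ W, ∀ z ∈ R, z ∈ centralizer {x} → ⁅w, z⁆ ∈ C0 x K := by
    intro w hw z hz hzC
    have hwC := (mem_inf.1 hw).2
    have hwK : w ∈ K := hVK (mem_inf.1 hw).1
    have h1 : w * z * w⁻¹ ∈ C0 x K :=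
      mem_C0_of_cm (mul_mem (mul_mem hwK hgK) (inv_mem hwK))
        (mem_cm_conj hwC (hgR.symm ▸ hz)) (mul_mem (mul_mem hwC hzC) (inv_mem hwC))
    rw [commutatorElement_def]
    exact mul_mem h1 (inv_mem (hRfix z hz hzC))
  have hconjV : ∀ {a b : G}, a ∈ V → b ∈ V → a * b * a⁻¹ = b := fun {a b} ha hb => by
    rw [hab a ha b hb, mul_inv_cancel_right]
  set Zc := R ⊓ centralizer (R : Set G) with hZc
  have hZx : x ∈ normalizer (Zc : Set G) := mem_normalizer_inf hRx (mem_normalizer_centralizer hRx)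
  have hZR : Zc ≤ R := inf_le_left
  by_cases hfixed : ∃ z ∈ Zc, z ≠ 1 ∧ z ∈ centralizer {x}
  · obtain ⟨z, hz, hz1, hzC⟩ := hfixed
    have hzR := hZR hz
    have hRz : ∀ r ∈ R, r * z = z * r := fun r hr => mem_centralizer_iff.1 (mem_inf.1 hz).2 r hr
    have hCn : K ≤ normalizer ((V ⊓ centralizer {z} : Subgroup G) : Set G) := by
      rw [← hVR]
      refine sup_le ?_ fun r hr => mem_normalizer_inf (hRV' hr)
        (mem_normalizer_centralizer_singleton (hRz r hr))
      intro v hv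
      refine mem_normalizer_of_map_conj_le ?_
      rintro _ ⟨w, hw, rfl⟩
      show v * w * v⁻¹ ∈ _
      rw [hconjV hv (mem_inf.1 hw).1]
      exact hw
    have hCx : x ∈ normalizer ((V ⊓ centralizer {z} : Subgroup G) : Set G) :=
      mem_normalizer_inf hxV
        (mem_normalizer_centralizer_singleton (mem_centralizer_singleton_iff.1 hzC).symm)
    rcases hmin _ inf_le_left hCn hCx with h0 | h0
    · -- the map `w ↦ ⁅w, z⁆` is a bijection of the fixed points
      have hmem : ∀ w : ↥W, ⁅(w : G), z⁆ ∈ W := fun w => by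
        obtain ⟨hwV, hwC⟩ := mem_inf.1 w.2
        refine mem_inf.2 ⟨?_, ?_⟩
        · rw [commutatorElement_def, mul_assoc, mul_assoc]
          refine mul_mem hwV ?_
          rw [← mul_assoc]
          exact conj_mem_of_mem_normalizer (hRV' hzR) (inv_mem hwV)
        · rw [commutatorElement_def]
          exact mul_mem (mul_mem (mul_mem hwC hzC) (inv_mem hwC)) (inv_mem hzC)
      have hinj : Function.Injective (fun w : ↥W => (⟨⁅(w : G), z⁆, hmem w⟩ : ↥W)) := by
        intro a b hab'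
        have h1 : ⁅(a : G), z⁆ = ⁅(b : G), z⁆ := congrArg Subtype.val hab'
        have h2 : ((b : G)⁻¹ * a) ∈ V ⊓ centralizer {z} := by
          refine mem_inf.2 ⟨mul_mem (inv_mem (mem_inf.1 b.2).1) (mem_inf.1 a.2).1, ?_⟩
          rw [mem_centralizer_singleton_iff]
          rw [commutatorElement_def, commutatorElement_def] at h1
          calc (b : G)⁻¹ * a * z = (b : G)⁻¹ * ((a : G) * z * (a : G)⁻¹ * z⁻¹) * z * a := by group
            _ = (b : G)⁻¹ * ((b : G) * z * (b : G)⁻¹ * z⁻¹) * z * a := by rw [h1]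
            _ = z * ((b : G)⁻¹ * a) := by group
        rw [h0, mem_bot, inv_mul_eq_one] at h2
        exact Subtype.ext h2.symm
      refine hR.done hVK hV1 hKV hxV fun w hw => ?_
      obtain ⟨w', hw'⟩ := Finite.injective_iff_surjective.1 hinj ⟨w, hw⟩
      rw [← show ⁅(w' : G), z⁆ = w from congrArg Subtype.val hw']
      exact hWz w' w'.2 z hzR hzC
    · have hKz : ∀ k ∈ K, k * z = z * k := by
        intro k hk
        rw [← hVR] at hk
        obtain ⟨v, hv, r, hr, rfl⟩ := (mem_sup_iff_of_le_normalizer hRV').1 hk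
        rw [← h0] at hv
        exact ((show Commute v z from mem_centralizer_singleton_iff.1 (mem_inf.1 hv).2).mul_left
          (hRz r hr)).eq
      have hnz : ∀ a : G, a * z = z * a → a ∈ normalizer ((zpowers z : Subgroup G) : Set G) := by
        intro a ha
        refine mem_normalizer_of_map_conj_le ?_
        rw [MonoidHom.map_zpowers]
        refine le_of_eq (congrArg zpowers ?_)
        show a * z * a⁻¹ = z
        rw [ha, mul_inv_cancel_right]
      refine hR.done (zpowers_le.2 (hRK hzR)) (zpowers_ne_bot.2 hz1) (fun k hk => hnz k (hKz k hk))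
        (hnz x (mem_centralizer_singleton_iff.1 hzC).symm) ?_
      exact inf_le_left.trans (zpowers_le.2 (hRfix z hzR hzC))
  push Not at hfixed
  have hRnt : R ≠ ⊥ := fun h0 => hVne (by rw [h0, sup_bot_eq] at hVR; exact hVR)
  have hRr : IsPGroup r R := hPR ▸ P.isPGroup'.map K.subtype
  have hZ1 : Zc ≠ ⊥ := by
    haveI := (nontrivial_iff_ne_bot R).2 hRnt
    haveI := hRr.center_nontrivial
    obtain ⟨z, hz, hz1⟩ := Subgroup.ne_bot_iff_exists_ne_one.1
      ((nontrivial_iff_ne_bot (Subgroup.center ↥R)).1 inferInstance) |>.elim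
      fun z hz => (⟨z.1, z.2, fun h => hz (Subtype.ext h)⟩ : ∃ z ∈ center ↥R, z ≠ 1)
    intro h0
    refine hz1 (Subtype.ext (mem_bot.1 (h0 ▸ mem_inf.2 ⟨z.2, ?_⟩)))
    rw [mem_centralizer_iff]
    intro r hr
    exact congrArg Subtype.val (mem_center_iff.1 hz ⟨r, hr⟩)
  obtain ⟨E, hEZ, ⟨hE1, hEx⟩, hEmin⟩ := exists_minimal_le_of_wellFoundedLT
    (fun X : Subgroup G => X ≠ ⊥ ∧ x ∈ normalizer (X : Set G)) Zc ⟨hZ1, hZx⟩
  have hER : E ≤ R := hEZ.trans hZR
  have hRE : ∀ r ∈ R, ∀ e ∈ E, r * e = e * r := fun r hr e he =>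
    mem_centralizer_iff.1 (mem_inf.1 (hEZ he)).2 r hr
  have hRnE : R ≤ normalizer (E : Set G) := by
    intro r hr
    refine mem_normalizer_of_map_conj_le ?_
    rintro _ ⟨e, he, rfl⟩
    show r * e * r⁻¹ ∈ E
    rw [hRE r hr e he, mul_inv_cancel_right]
    exact he
  have hEC : E ⊓ centralizer {x} = ⊥ := (Subgroup.eq_bot_iff_forall _).2 fun e he => by
    by_contra he1
    exact hfixed e (hEZ (mem_inf.1 he).1) he1 (mem_inf.1 he).2
  have hCn : K ≤ normalizer ((V ⊓ centralizer (E : Set G) : Subgroup G) : Set G) := by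
    rw [← hVR]
    refine sup_le ?_ fun r hr => mem_normalizer_inf (hRV' hr)
      (mem_normalizer_centralizer (hRnE hr))
    intro v hv
    refine mem_normalizer_of_map_conj_le ?_
    rintro _ ⟨w, hw, rfl⟩
    show v * w * v⁻¹ ∈ _
    rw [hconjV hv (mem_inf.1 hw).1]
    exact hw
  rcases hmin _ inf_le_left hCn (mem_normalizer_inf hxV (mem_normalizer_centralizer hEx)) with
    h0 | h0
  swap
  · have hKE : ∀ k ∈ K, ∀ e ∈ E, k * e = e * k := by
      intro k hk e he
      rw [← hVR] at hk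
      obtain ⟨v, hv, r, hr, rfl⟩ := (mem_sup_iff_of_le_normalizer hRV').1 hk
      rw [← h0] at hv
      exact ((show Commute v e from (mem_centralizer_iff.1 (mem_inf.1 hv).2 e he).symm).mul_left
        (hRE r hr e he)).eq
    refine hR.done (hER.trans hRK) hE1 ?_ hEx (by rw [hEC]; exact bot_le)
    intro k hk
    refine mem_normalizer_of_map_conj_le ?_
    rintro _ ⟨e, he, rfl⟩
    show k * e * k⁻¹ ∈ E
    rw [hKE k hk e he, mul_inv_cancel_right]
    exact he
  -- the main configuration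
  have hEV : E ≤ normalizer (V : Set G) := hER.trans hRV'
  have hVE : V ≤ ⁅V, E⁆ := by
    have hle : ⁅V, E⁆ ≤ V := le_normalizer_iff_commutator_le_left.1 hEV
    rcases hmin ⁅V, E⁆ hle (by
        rw [← hVR]
        exact sup_le (normalizer_commutator_ge_left V E)
          (fun r hr => mem_normalizer_commutator_of_mem (hRV' hr) (hRnE hr)))
        (mem_normalizer_commutator_of_mem hxV hEx) with h1 | h1
    · exfalso
      refine hV1 (eq_bot_iff.2 ?_)
      rw [← h0]
      exact le_inf le_rfl (commutator_eq_bot_iff_le_centralizer.1 h1)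
    · exact h1.ge
  obtain ⟨v, hv, hvne⟩ := exists_not_mem_prod h hp hVK hxV hab hEV hEx
    (fun a ha b hb => hRE a (hER ha) b hb) hE1
    (fun Y hY hYx => or_iff_not_imp_left.2 fun h1 =>
      le_antisymm hY (hEmin ⟨h1, hYx⟩ hY)) hEC h0 hVE hW (hKV hgK)
  -- `h = g v`
  have hhK : g * v ∈ K := mul_mem hgK (hVK hv)
  set H := cm x (g * v) with hH
  have hHK : H ≤ K := cm_le h hhK
  have hHx : x ∈ normalizer (H : Set G) := mem_normalizer_cm x _
  have hHn : H ≤ normalizer (V : Set G) := hHK.trans hKV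
  have hVH : V ⊔ H = K := by
    refine le_antisymm (sup_le hVK hHK) ?_
    rw [← hVR, ← hgR]
    refine sup_le le_sup_left ?_
    rw [cm, closure_le]
    rintro _ ⟨i, rfl⟩
    have e : g⁻¹ * (x ^ i * g * (x ^ i)⁻¹) =
        v * ((g * v)⁻¹ * (x ^ i * (g * v) * (x ^ i)⁻¹)) * (x ^ i * v⁻¹ * (x ^ i)⁻¹) := by group
    rw [SetLike.mem_coe, e]
    exact mul_mem (mul_mem (mem_sup_left hv) (mem_sup_right (mem_cm x (g * v) i)))
      (mem_sup_left (conj_mem_of_mem_normalizer (pow_mem hxV i) (inv_mem hv)))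
  have hHV : H ⊓ V = ⊥ := by
    rcases hmin (H ⊓ V) inf_le_right (by
      rw [← hVH]
      refine sup_le ?_ fun a ha => mem_normalizer_inf (le_normalizer ha) (hHn ha)
      intro a ha
      refine mem_normalizer_of_map_conj_le ?_
      rintro _ ⟨w, hw, rfl⟩
      show a * w * a⁻¹ ∈ _
      rw [hconjV ha (mem_inf.1 hw).2]
      exact hw) (mem_normalizer_inf hHx hxV) with h1 | h1
    · exact h1
    · exfalso
      refine hq _ hhK ?_
      rw [← hH, ← hVH, sup_eq_right.2 (h1.ge.trans inf_le_left)]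
  have hcard : Nat.card H = r ^ (Nat.card K).factorization r := by
    rw [← card_map_sylow P, hPR]
    exact le_antisymm (card_le_of_le_sup hRV' (hHK.trans hVR.ge) hHV)
      (card_le_of_le_sup hHn (hRK.trans hVH.ge) hRV)
  obtain ⟨P', hP'⟩ := exists_sylow_of_card hHK hcard
  obtain ⟨c, hcC, hcP⟩ := invariant_sylow_conj h.aN h.cop h.sol P P'
    (by rw [hPR]; exact zpowers_le.2 hRx) (by rw [hP']; exact zpowers_le.2 hHx)
  have hcVR : (c : G) ∈ V ⊔ R := hVR.ge c.2
  obtain ⟨v₁, hv₁, r₁, hr₁, hc⟩ := (mem_sup_iff_of_le_normalizer hRV').1 hcVR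
  obtain ⟨w, hw, z, hz, hwz⟩ := exists_centralizer_mul h.aN h.cop h.sol hVK hRK
    (zpowers_le.2 hxV) (zpowers_le.2 hRx) hv₁ hr₁ (hc ▸ hcC)
  rw [centralizer_singleton_eq] at hw hz
  have hcwz : (c : G) = w * z := hc.trans hwz
  -- conjugating back by `w`
  have hwC := (mem_inf.1 hw).2
  have hwV := (mem_inf.1 hw).1
  have hgen : w⁻¹ * (g * v) * w⁻¹⁻¹ = g * (g⁻¹ * w⁻¹ * g * v * w) := by group
  set u := g⁻¹ * w⁻¹ * g * v * w with hu
  have huV : u ∈ V := by
    refine mul_mem (mul_mem ?_ hv) hwV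
    have := conj_mem_of_mem_normalizer (inv_mem (hKV hgK)) (inv_mem hwV)
    rwa [inv_inv] at this
  have hin : (g * u)⁻¹ * (x * (g * u) * x⁻¹) ∈ R := by
    have h1 := mem_cm_conj (c := w⁻¹) (inv_mem hwC) (mem_cm_one x (g * v))
    have h2 : cm x (w⁻¹ * (g * v) * w⁻¹⁻¹) ≤ R := by
      rw [← map_cm_conj (inv_mem hwC), ← hH, ← hP', ← hcP]
      rintro _ ⟨_, ⟨a, ha, rfl⟩, rfl⟩
      rw [SetLike.mem_coe, Sylow.pointwise_smul_def, Subgroup.mem_pointwise_smul_iff_inv_smul_mem] at ha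
      obtain ⟨b, hb, rfl⟩ : ∃ b ∈ (P : Subgroup K), MulAut.conj c b = a :=
        ⟨_, ha, smul_inv_smul (MulAut.conj c) a⟩
      show w⁻¹ * ((c : G) * (b : G) * (c : G)⁻¹) * w⁻¹⁻¹ ∈ R
      have : w⁻¹ * ((c : G) * (b : G) * (c : G)⁻¹) * w⁻¹⁻¹ = z * (b : G) * z⁻¹ := by
        rw [hcwz]; group
      rw [this]
      have hbR : (b : G) ∈ R := hPR ▸ mem_map_of_mem K.subtype hb
      exact mul_mem (mul_mem (mem_inf.1 hz).1 hbR) (inv_mem (mem_inf.1 hz).1)
    rw [hgen] at h2
    exact h2 (mem_cm_one x (g * u))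
  have hcg : g⁻¹ * (x * g * x⁻¹) ∈ R := hgR ▸ mem_cm_one x g
  set d := g⁻¹ * (x * g * x⁻¹) with hd
  have hfix : u⁻¹ * (d * (x * u * x⁻¹) * d⁻¹) = 1 := by
    refine mem_bot.1 (hRV ▸ mem_inf.2 ⟨?_, ?_⟩)
    · have e : u⁻¹ * (d * (x * u * x⁻¹) * d⁻¹) = (g * u)⁻¹ * (x * (g * u) * x⁻¹) * d⁻¹ := by
        rw [hd]; group
      rw [e]
      exact mul_mem hin (inv_mem hcg)
    · exact mul_mem (inv_mem huV) (conj_mem_of_mem_normalizer (hRV' hcg)
        (conj_mem_of_mem_normalizer hxV huV))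
  have hguW : g * u * g⁻¹ ∈ W := by
    refine mem_inf.2 ⟨conj_mem_of_mem_normalizer (hKV hgK) huV, ?_⟩
    rw [mem_centralizer_singleton_iff]
    have e : x * (g * u * g⁻¹) = g * u * (u⁻¹ * (d * (x * u * x⁻¹) * d⁻¹)) * g⁻¹ * x := by
      rw [hd]; group
    rw [e, hfix]
    group
  exfalso
  refine hvne (w * (g * u * g⁻¹)) (mul_mem hw hguW) w⁻¹ (inv_mem hw) ?_
  rw [hu]
  group

theorem main_step (h : Act p x K) (hp : Odd p) (hK : ⁅K, zpowers x⁆ = K)
    (hB : Below x K) (hR : Red x K) : K ⊓ centralizer {x} ≤ C0 x K := by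
  by_cases hq : ∃ k ∈ K, cm x k = K
  · obtain ⟨k, hk, he⟩ := hq
    exact le_C0_of_cm_eq hk he
  push Not at hq
  by_cases hK1 : K = ⊥
  · rw [hK1, bot_inf_eq]; exact bot_le
  obtain ⟨V, q, hqp, hVK, hV1, hKV, hxV, hab, hVq, hmin⟩ := exists_minimal_elementary h hK1
  haveI := Fact.mk hqp
  set W := V ⊓ centralizer {x} with hWdef
  by_cases hW : W = ⊥
  · refine hR.done hVK hV1 hKV hxV ?_
    rw [← hWdef, hW]; exact bot_le
  by_cases hWV : W = V
  · exact fixed_minimal_case h hp hK hB hR hVK hV1 hKV hxV hVq (hWV ▸ inf_le_right)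
  have hVne : V ≠ K := by
    rintro rfl
    haveI : IsMulCommutative ↥V := IsMulCommutative.of_comm fun a b =>
      Subtype.ext (hab a a.2 b b.2)
    have h1 := centralizer_inf_commutator_eq_bot h.aN h.cop
    rw [hK, centralizer_singleton_eq, inf_eq_left.2 inf_le_left] at h1
    exact hW h1
  -- the elements `g` whose invariant subgroup is proper
  let good : G → Prop := fun g => g ∈ K ∧ V ⊔ cm x g ⊔ zpowers g ≠ K
  have hUx : ∀ g, x ∈ normalizer ((V ⊔ cm x g ⊔ zpowers g : Subgroup G) : Set G) := by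
    intro g
    refine mem_normalizer_of_map_conj_le ?_
    rw [Subgroup.map_sup, MonoidHom.map_zpowers]
    refine sup_le ?_ (zpowers_le.2 ?_)
    · exact (map_conj_le_of_mem (mem_normalizer_sup hxV (mem_normalizer_cm x g))).trans le_sup_left
    · show x * g * x⁻¹ ∈ _
      rw [show x * g * x⁻¹ = g * (g⁻¹ * (x * g * x⁻¹)) by group]
      exact mul_mem (mem_sup_right (mem_zpowers g))
        (mem_sup_left (mem_sup_right (mem_cm_one x g)))
  set L := ⨆ g : {g : G // good g}, cm x (g : G) with hL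
  have hLK : L ≤ K := iSup_le fun g => cm_le h g.2.1
  have hgoodL : ∀ g, good g → cm x g ≤ L := fun g hg => le_iSup_of_le ⟨g, hg⟩ le_rfl
  by_cases hLe : L = K
  · -- every element of `V ∩ C` comes from proper subgroups
    have hVK' : ⁅V, K⁆ = V := by
      rcases hmin ⁅V, K⁆ (le_normalizer_iff_commutator_le_left.1 hKV)
        (normalizer_commutator_ge_right V K)
        (mem_normalizer_commutator_of_mem hxV h.hn) with h0 | h0
      · exfalso
        have hcen : ∀ k ∈ K, ∀ w ∈ V, k * w = w * k := fun k hk w hw =>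
          mem_centralizer_iff.1 (commutator_eq_bot_iff_le_centralizer.1 h0 hw) k hk
        rcases hmin W inf_le_left (fun k hk => by
          refine mem_normalizer_of_map_conj_le ?_
          rintro _ ⟨w, hw, rfl⟩
          show k * w * k⁻¹ ∈ W
          rw [hcen k hk w (mem_inf.1 hw).1, mul_inv_cancel_right]
          exact hw) (mem_normalizer_inf hxV
            (le_normalizer (mem_centralizer_singleton_iff.2 rfl))) with h1 | h1
        · exact hW h1
        · exact hWV h1
      · exact h0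
    refine hR.done hVK hV1 hKV hxV (inf_centralizer_le_of_cover h hVK hxV hab ?_)
    set S := closure {s : G | s ∈ V ∧ ∃ D : Subgroup G, x ∈ normalizer (D : Set G) ∧ s ∈ D ∧
        D ⊓ centralizer {x} ≤ C0 x K}
    refine hVK'.ge.trans ?_
    rw [commutator_le]
    intro a ha k hk
    suffices hs : k ∈ K ∧ ∀ a ∈ V, ⁅a, k⁆ ∈ S from hs.2 a ha
    rw [← hLe] at hk
    refine Subgroup.iSup_induction (C := fun k => k ∈ K ∧ ∀ a ∈ V, ⁅a, k⁆ ∈ S) _ hk ?_ ?_ ?_
    · rintro ⟨g, hgK, hgne⟩ c hc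
      refine ⟨cm_le h hgK hc, fun a ha => subset_closure ?_⟩
      have hcK := cm_le h hgK hc
      have hcP : c ∈ ⁅V ⊔ cm x g ⊔ zpowers g, zpowers x⁆ :=
        cm_le_commutator (mem_sup_right (mem_zpowers g)) hc
      refine ⟨?_, ⁅V ⊔ cm x g ⊔ zpowers g, zpowers x⁆, mem_normalizer_commutator, ?_,
        hB.apply (sup_le (sup_le hVK (cm_le h hgK)) (zpowers_le.2 hgK)) (hUx g) hgne⟩
      · rw [commutatorElement_def, mul_assoc, mul_assoc, ← mul_assoc c]
        exact mul_mem ha (conj_mem_of_mem_normalizer (hKV hcK) (inv_mem ha))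
      · rw [commutatorElement_def]
        exact mul_mem (conj_mem_of_mem_normalizer
          (normalizer_commutator_ge_left _ _ (mem_sup_left (mem_sup_left ha))) hcP) (inv_mem hcP)
    · exact ⟨one_mem _, fun a _ => by rw [commutatorElement_one_right]; exact one_mem _⟩
    · rintro b c ⟨hb, hb'⟩ ⟨hc, hc'⟩
      refine ⟨mul_mem hb hc, fun a ha => ?_⟩
      have hcV : ⁅a, c⁆ ∈ V := le_normalizer_iff_commutator_le_left.1 hKV
        (commutator_mem_commutator ha hc)
      have e : ⁅a, b * c⁆ = ⁅a, b⁆ * (⁅⁅a, c⁆, b⁆⁻¹ * ⁅a, c⁆) := by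
        simp only [commutatorElement_def]; group
      rw [e]
      exact mul_mem (hb' a ha) (mul_mem (inv_mem (hb' _ hcV)) (hc' a ha))
  -- otherwise some invariant Sylow subgroup is a complement of `V`
  set C := K ⊓ centralizer {x} with hC
  have hCL : ∀ c ∈ C, c ∈ normalizer (L : Set G) := by
    intro c hc
    obtain ⟨hcK, hcC⟩ := mem_inf.1 hc
    refine mem_normalizer_of_map_conj_le ?_
    rw [hL, Subgroup.map_iSup]
    refine iSup_le fun g => ?_
    rw [map_cm_conj hcC]
    refine hgoodL _ ⟨mul_mem (mul_mem hcK g.2.1) (inv_mem hcK), fun he => g.2.2 ?_⟩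
    have hmK : K.map (MulAut.conj c).toMonoidHom = K :=
      eq_of_le_of_card_ge (map_conj_le_of_mem (le_normalizer hcK))
        (le_of_eq (card_map_of_injective (MulAut.conj c).injective).symm)
    have hmV : V.map (MulAut.conj c).toMonoidHom = V :=
      eq_of_le_of_card_ge (map_conj_le_of_mem (hKV hcK))
        (le_of_eq (card_map_of_injective (MulAut.conj c).injective).symm)
    refine map_injective (f := (MulAut.conj c).toMonoidHom) (MulAut.conj c).injective ?_
    rw [Subgroup.map_sup, Subgroup.map_sup, MonoidHom.map_zpowers, map_cm_conj hcC, hmK, hmV]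
    exact he
  have hLx : x ∈ normalizer (L : Set G) := by
    refine mem_normalizer_of_map_conj_le ?_
    rw [hL, Subgroup.map_iSup]
    exact iSup_le fun g => (map_conj_le_of_mem (mem_normalizer_cm x _)).trans
      (le_iSup_of_le g le_rfl)
  have hnotle : ¬ K ≤ L ⊔ C := by
    intro hle
    refine hLe (le_antisymm hLK ?_)
    calc K = ⁅K, zpowers x⁆ := hK.symm
      _ ≤ ⁅L ⊔ C, zpowers x⁆ := commutator_mono hle le_rfl
      _ ≤ L := commutator_sup_le (fun c hc => hCL c hc) le_rfl ?_ hLx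
    rw [commutator_le]
    intro c hc a ha
    obtain ⟨i, rfl⟩ := mem_zpowers_iff.1 ha
    rw [commutatorElement_eq_one_iff_commute.2
      ((show Commute c x from mem_centralizer_singleton_iff.1 (mem_inf.1 hc).2).zpow_right i)]
    exact one_mem _
  have hgen : ∀ S ≤ K, x ∈ normalizer (S : Set G) → (∀ g ∈ S, good g) → S ≤ L ⊔ C :=
    fun S hS hSx hSg => le_sup_fixed h hS hSx fun g hg => hgoodL g (hSg g hg)
  have hgoodsub : ∀ (U : Subgroup G), U ≤ K → x ∈ normalizer (U : Set G) → V ⊔ U ≠ K →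
      ∀ g ∈ U, good g := by
    intro U hU hUn hne g hg
    refine ⟨hU hg, fun he => hne (le_antisymm (sup_le hVK hU) ?_)⟩
    conv_lhs => rw [← he]
    exact sup_le (sup_le le_sup_left ((cm_le (h.mono hU hUn) hg).trans le_sup_right))
      (zpowers_le.2 (mem_sup_right hg))
  have hex : ∃ (r : ℕ) (_ : Fact r.Prime) (P : Sylow r K),
      x ∈ normalizer (((P : Subgroup K).map K.subtype : Subgroup G) : Set G) ∧
      V ⊔ (P : Subgroup K).map K.subtype = K := by
    by_contra hcon
    push Not at hcon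
    refine hnotle ?_
    rw [← subgroupOf_eq_top]
    refine FittingCores.eq_top_of_forall_sylow_le fun r hr => ?_
    haveI := Fact.mk hr
    obtain ⟨P, hP⟩ := exists_invariant_sylow h.aN h.cop h.sol r
    exact ⟨P, map_le_iff_le_comap.1 (hgen _ (map_subtype_le _) (hP (mem_zpowers x))
      (hgoodsub _ (map_subtype_le _) (hP (mem_zpowers x))
        (hcon r (Fact.mk hr) P (hP (mem_zpowers x)))))⟩
  obtain ⟨r, hr, P, hPx, hVR⟩ := hex
  haveI := hr
  set R := (P : Subgroup K).map K.subtype with hRdef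
  have hRK : R ≤ K := map_subtype_le _
  have hRr : IsPGroup r R := P.isPGroup'.map K.subtype
  by_cases hrq : r = q
  · subst hrq
    have hKr : IsPGroup r ↥K := by
      rw [← hVR]
      exact hVq.to_sup_of_normal_left' hRr (hRK.trans hKV)
    haveI := hKr.isNilpotent
    exact nilpotent_case h hp hK hB hR
  have hRV : R ⊓ V = ⊥ := disjoint_iff.1 (IsPGroup.disjoint_of_ne r q hrq R V hRr hVq)
  have hmod : ∀ S, S ≤ R → R ≤ V ⊔ S → S = R := by
    intro S hS hle
    refine le_antisymm hS fun a ha => ?_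
    obtain ⟨v, hv, s, hs, rfl⟩ :=
      (mem_sup_iff_of_le_normalizer (hS.trans (hRK.trans hKV))).1 (hle ha)
    have hvR : v ∈ R := by simpa using mul_mem ha (inv_mem (hS hs))
    have hv1 : v = 1 := by
      rw [← mem_bot, ← hRV]
      exact mem_inf.2 ⟨hvR, hv⟩
    rw [hv1, one_mul]
    exact hs
  have hA := h.mono hRK hPx
  have hRc : ⁅R, zpowers x⁆ = R := by
    refine hmod _ (commutator_le_left hA.aN) (hRK.trans ?_)
    have h1 : ⁅V ⊔ R, zpowers x⁆ ≤ V ⊔ ⁅R, zpowers x⁆ :=
      commutator_sup_le (hRK.trans hKV) le_sup_left le_sup_right hxV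
    rwa [hVR, hK] at h1
  haveI := hRr.isNilpotent
  by_cases hg : ∃ g ∈ R, cm x g = R
  · obtain ⟨g, hgR, hge⟩ := hg
    exact complement_case h hp hR hq P rfl hPx hVK hV1 hVne hKV hxV hab hmin hW hVR hRV hgR hge
  exfalso
  push Not at hg
  refine hnotle ?_
  conv_lhs => rw [← hVR]
  refine sup_le (hgen V hVK hxV (hgoodsub V hVK hxV (by rw [sup_idem]; exact hVne)))
    (hgen R hRK hPx fun g hgR => ?_)
  obtain ⟨U, hU, hUx', hUne, hgU, -⟩ := exists_proper_invariant hA hRc hgR (hg g hgR)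
  exact hgoodsub U (hU.trans hRK) hUx'
    (fun he => hUne (hmod U hU (he.symm ▸ hRK))) g hgU

theorem goal (hp : Odd p) : ∀ n, Goal.{u} p n := by
  intro n
  induction n with
  | zero => intro G _ _ x K _ hlt; exact absurd hlt (Nat.not_lt_zero _)
  | succ n ih =>
    intro G _ _ x K h hlt
    rcases Nat.lt_succ_iff_lt_or_eq.1 hlt with hlt' | heq
    · exact ih G x K h hlt'
    subst heq
    have hB := below_of_goal ih h
    by_cases hK : ⁅K, zpowers x⁆ = K
    · rw [hK]
      exact main_step h hp hK hB (red_of_goal ih h hK)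
    · have hD := hB.apply (commutator_le_left h.aN) mem_normalizer_commutator hK
      rwa [commutator_commutator h.aN h.cop h.sol] at hD

theorem inf_centralizer_le_C0 (h : Act p x K) (hp : Odd p) :
    ⁅K, zpowers x⁆ ⊓ centralizer {x} ≤ C0 x K :=
  goal hp (Nat.card K + 1) G x K h (Nat.lt_succ_self _)

end Cfsg.Agent.CoprimeGen
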